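import Mathlib

/-!
# An abelian group with two commuting automorphisms of prime order
-/

set_option autoImplicit false
set_option linter.unusedSectionVars false
set_option linter.style.haveILetI false

namespace Cfsg.Lib.ClassSize

open Finset

variable {V : Type*} [CommGroup V] {q : ℕ}

/-- The product of the images under the powers of `W`. -/
def norm' (q : ℕ) (W : MulAut V) : V →* V where
  toFun v := ∏ j ∈ range q, (W ^ j) v
  map_one' := by simp
  map_mul' a b := by simp [map_mul, prod_mul_distrib]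

theorem apply_norm' (W : MulAut V) (hW : W ^ q = 1) (v : V) : W (norm' q W v) = norm' q W v := by
  rcases q with _ | k
  · simp [norm']
  show W (∏ j ∈ range (k + 1), (W ^ j) v) = ∏ j ∈ range (k + 1), (W ^ j) v
  rw [map_prod]
  conv_lhs => rw [prod_congr rfl fun j _ => (show W ((W ^ j) v) = (W ^ (j + 1)) v by
    rw [pow_succ', MulAut.mul_apply])]
  rw [prod_range_succ, hW, prod_range_succ' (fun j => (W ^ j) v) k, pow_zero]

theorem norm'_of_fixed (W : MulAut V) {v : V} (h : W v = v) : norm' q W v = v ^ q := by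
  show ∏ j ∈ range q, (W ^ j) v = v ^ q
  have : ∀ j : ℕ, (W ^ j) v = v := by
    intro j
    induction j with
    | zero => simp
    | succ j ih => rw [pow_succ', MulAut.mul_apply, ih, h]
  simp [this]

theorem apply_norm'_of_commute (W X : MulAut V) (hc : Commute X W) {v : V} (h : X v = v) :
    X (norm' q W v) = norm' q W v := by
  show X (∏ j ∈ range q, (W ^ j) v) = _
  rw [map_prod]
  refine prod_congr rfl fun j _ => ?_
  rw [← MulAut.mul_apply, (hc.pow_right j).eq, MulAut.mul_apply, h]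

variable {φ ψ : MulAut V}

/-- The sum of the norms over the `q` diagonal subgroups. -/
theorem prod_norm' (hq : q.Prime) (hc : Commute φ ψ) (hψ : ψ ^ q = 1) (v : V) :
    ∏ i ∈ range q, norm' q (φ * ψ ^ i) v =
      v ^ q * ∏ j ∈ Ico 1 q, (φ ^ j) (norm' q ψ v) := by
  show ∏ i ∈ range q, ∏ j ∈ range q, ((φ * ψ ^ i) ^ j) v = _
  rw [prod_comm, range_eq_Ico, prod_eq_prod_Ico_succ_bot hq.pos, ← range_eq_Ico]
  congr 1
  · simp
  refine prod_congr rfl fun j hj => ?_
  obtain ⟨hj1, hjq⟩ := mem_Ico.mp hj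
  show _ = (φ ^ j) (∏ i ∈ range q, (ψ ^ i) v)
  rw [map_prod]
  have hjc : Nat.Coprime j q :=
    ((hq.coprime_iff_not_dvd).mpr fun hd => by
      have := Nat.le_of_dvd hj1 hd; omega).symm
  refine prod_bij (fun i _ => i * j % q) (fun i _ => mem_range.mpr (Nat.mod_lt _ hq.pos))
    (fun a ha b hb hab => ?_) (fun b hb => ?_) (fun i _ => ?_)
  · have h1 : a * j ≡ b * j [MOD q] := hab
    have h2 := Nat.ModEq.cancel_right_of_coprime (by rwa [Nat.gcd_comm]) h1
    exact Nat.ModEq.eq_of_lt_of_lt h2 (mem_range.mp ha) (mem_range.mp hb)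
  · obtain ⟨e, he⟩ := Nat.exists_mul_mod_eq_one_of_coprime hjc hq.one_lt
    refine ⟨b * e % q, mem_range.mpr (Nat.mod_lt _ hq.pos), ?_⟩
    show b * e % q * j % q = b
    rw [Nat.mod_mul_mod, mul_assoc, mul_comm e j, ← Nat.mul_mod_mod, he.2, mul_one,
      Nat.mod_eq_of_lt (mem_range.mp hb)]
  · rw [(hc.pow_right i).mul_pow, ← pow_mul, MulAut.mul_apply]
    congr 2
    exact pow_eq_pow_mod _ hψ

theorem fixed_of_two (hq : q.Prime) (hc : Commute φ ψ) (hψ : ψ ^ q = 1) {i k : ℕ} (hik : i < k)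
    (hk : k < q) {v : V} (h1 : (φ * ψ ^ i) v = v) (h2 : (φ * ψ ^ k) v = v) : ψ v = v := by
  let S : Subgroup (MulAut V) := MulAction.stabilizer (MulAut V) v
  have h3 : ψ ^ (k - i) ∈ S := by
    have e : ψ ^ (k - i) = (φ * ψ ^ i)⁻¹ * (φ * ψ ^ k) := by
      rw [mul_inv_rev, mul_assoc, inv_mul_cancel_left, eq_inv_mul_iff_mul_eq, ← pow_add]
      congr 1; omega
    rw [e]
    exact S.mul_mem (S.inv_mem h1) h2
  have h4 : ψ ^ q ∈ S := by rw [hψ]; exact S.one_mem
  have hcop : Nat.Coprime (k - i) q :=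
    ((hq.coprime_iff_not_dvd).mpr fun hd => by
      have := Nat.le_of_dvd (by omega) hd; omega).symm
  have hg : ψ ^ Nat.gcd (k - i) q ∈ S := by
    rw [← zpow_natCast, Nat.gcd_eq_gcd_ab, zpow_add, zpow_mul, zpow_mul, zpow_natCast, zpow_natCast]
    exact S.mul_mem (S.zpow_mem h3 _) (S.zpow_mem h4 _)
  rw [hcop.gcd_eq_one, pow_one] at hg
  exact hg

/-- The `q` diagonal fixed subgroups are independent modulo the fixed points of `ψ`. -/
theorem pow_le_prod_index [Finite V] (hq : q.Prime) (hc : Commute φ ψ) (hφ : φ ^ q = 1)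
    (hψ : ψ ^ q = 1) (hcop : (Nat.card V).Coprime q) {Z : Subgroup V}
    (hZψ : ∀ v, ψ v = v → v ∈ Z) (K : Fin q → Subgroup V)
    (hK : ∀ (i : Fin q) v, v ∈ K i ↔ (φ * ψ ^ (i : ℕ)) v = v) :
    Z.index ^ (q - 1) ≤ ∏ i : Fin q, (K i).index := by
  classical
  haveI : NeZero q := ⟨hq.ne_zero⟩
  let P : ((i : Fin q) → K i) →* V :=
    { toFun := fun a => ∏ i, (a i : V)
      map_one' := by simp
      map_mul' := fun a b => by simp [prod_mul_distrib] }
  have hW : ∀ i : Fin q, (φ * ψ ^ (i : ℕ)) ^ q = 1 := fun i => by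
    rw [(hc.pow_right _).mul_pow, hφ, one_mul, ← pow_mul, mul_comm, pow_mul, hψ, one_pow]
  have hWc : ∀ i j : Fin q, Commute (φ * ψ ^ (i : ℕ)) (φ * ψ ^ (j : ℕ)) := fun i j => by
    have h1 := hc.pow_right (j : ℕ)
    have h2 := (hc.pow_right (i : ℕ)).symm
    exact ((Commute.refl φ).mul_right h1).mul_left (h2.mul_right ((Commute.refl ψ).pow_pow _ _))
  have hker : ∀ a ∈ P.ker, ∀ i, (a i : V) ∈ Z := by
    intro a ha i
    have h1 : ∀ j, j ≠ i → norm' q (φ * ψ ^ (i : ℕ)) (a j) ∈ Z := by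
      intro j hji
      refine hZψ _ ?_
      have e1 := apply_norm' _ (hW i) (a j : V)
      have e2 := apply_norm'_of_commute (q := q) _ _ (hWc j i) ((hK j _).mp (a j).2)
      rcases lt_trichotomy (j : ℕ) (i : ℕ) with h | h | h
      · exact fixed_of_two hq hc hψ h i.2 e2 e1
      · exact absurd (Fin.ext h) hji
      · exact fixed_of_two hq hc hψ h j.2 e1 e2
    have h2 : norm' q (φ * ψ ^ (i : ℕ)) (P a) = 1 := by rw [show P a = 1 from ha, map_one]
    change norm' q _ (∏ j, (a j : V)) = 1 at h2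
    rw [map_prod, ← mul_prod_erase _ _ (mem_univ i),
      norm'_of_fixed _ ((hK i _).mp (a i).2)] at h2
    have h3 : (a i : V) ^ q ∈ Z := by
      rw [eq_inv_of_mul_eq_one_left h2]
      exact Z.inv_mem (Z.prod_mem fun j hj => h1 j (ne_of_mem_erase hj))
    obtain ⟨l, hl⟩ := exists_pow_eq_self_of_coprime
      (hcop.coprime_dvd_left (orderOf_dvd_natCard (a i : V))).symm
    rw [← hl]
    exact Z.pow_mem h3 l
  have hcard : Nat.card P.ker ≤ Nat.card Z ^ (q - 1) := by
    have h0 : Nat.card ({i : Fin q // i ≠ 0} → Z) = Nat.card Z ^ (q - 1) := by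
      rw [Nat.card_fun, Nat.card_eq_fintype_card (α := {i : Fin q // i ≠ 0}),
        Fintype.card_subtype_compl, Fintype.card_fin, Fintype.card_subtype_eq]
    rw [← h0]
    refine Nat.card_le_card_of_injective
      (fun a i => (⟨(a : (i : Fin q) → K i) i.1, hker _ a.2 i.1⟩ : Z)) fun a b hab => ?_
    apply Subtype.ext
    funext i
    apply Subtype.ext
    have hne : ∀ j, j ≠ 0 → ((a : (i : Fin q) → K i) j : V) = ((b : (i : Fin q) → K i) j : V) :=
      fun j hj => congrArg (fun t : Z => (t : V)) (congrFun hab ⟨j, hj⟩)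
    by_cases hi : i = 0
    · subst hi
      have ha : P (a : (i : Fin q) → K i) = P (b : (i : Fin q) → K i) := by
        rw [show P _ = 1 from a.2, show P _ = 1 from b.2]
      change ∏ j, ((a : (i : Fin q) → K i) j : V) = ∏ j, ((b : (i : Fin q) → K i) j : V) at ha
      rw [← mul_prod_erase _ _ (mem_univ (0 : Fin q)), ← mul_prod_erase _ _ (mem_univ (0 : Fin q)),
        prod_congr rfl fun j hj => hne j (ne_of_mem_erase hj)] at ha
      exact mul_right_cancel ha
    · exact hne i hi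
  have h1 := P.ker.card_mul_index
  rw [Subgroup.index_ker, Nat.card_pi] at h1
  have h2 : ∏ i : Fin q, Nat.card (K i) ≤ Nat.card Z ^ (q - 1) * Nat.card V := by
    rw [← h1]
    exact Nat.mul_le_mul hcard (Subgroup.card_le_card_group _)
  have h3 : (∏ i : Fin q, Nat.card (K i)) * ∏ i : Fin q, (K i).index = Nat.card V ^ q := by
    rw [← prod_mul_distrib]
    simp [Subgroup.card_mul_index]
  have h4 : Nat.card V ^ q = Z.index ^ (q - 1) * (Nat.card Z ^ (q - 1) * Nat.card V) := by
    conv_lhs => rw [← Nat.succ_pred_eq_of_pos hq.pos, pow_succ]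
    rw [← mul_assoc, ← mul_pow, mul_comm Z.index, Z.card_mul_index, Nat.pred_eq_sub_one]
  have h5 : Z.index ^ (q - 1) * (Nat.card Z ^ (q - 1) * Nat.card V) ≤
      (∏ i : Fin q, (K i).index) * (Nat.card Z ^ (q - 1) * Nat.card V) := by
    rw [← h4, ← h3, mul_comm]
    exact Nat.mul_le_mul_left _ h2
  exact Nat.le_of_mul_le_mul_right h5 (Nat.mul_pos (pow_pos Nat.card_pos _) Nat.card_pos)

end Cfsg.Lib.ClassSize
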