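import Mathlib

/-!
# Class sizes as indices of centralisers: products of elements with coprime class sizes
-/

set_option autoImplicit false
set_option linter.unusedSectionVars false
set_option linter.style.haveILetI false

namespace Cfsg.Lib.ClassSize

open Subgroup

universe u

variable {G : Type u} [Group G]

/-- The size of the conjugacy class of `g`, as an index. -/
noncomputable abbrev cs (g : G) : ℕ := (centralizer ({g} : Set G)).index

theorem mem_cent {g x : G} : x ∈ centralizer ({g} : Set G) ↔ Commute x g :=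
  mem_centralizer_singleton_iff

theorem mem_cent_comm {g x : G} :
    x ∈ centralizer ({g} : Set G) ↔ g ∈ centralizer ({x} : Set G) :=
  ⟨fun h => mem_cent.mpr (mem_cent.mp h).symm, fun h => mem_cent.mpr (mem_cent.mp h).symm⟩

theorem cent_le_of_mem_zpowers {g h : G} (hh : h ∈ zpowers g) :
    centralizer ({g} : Set G) ≤ centralizer ({h} : Set G) := fun x hx => by
  obtain ⟨i, rfl⟩ := mem_zpowers_iff.mp hh
  exact mem_cent.mpr ((mem_cent.mp hx).zpow_right i)

theorem cs_eq_one_iff {g : G} : cs g = 1 ↔ g ∈ center G := by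
  rw [cs, index_eq_one, eq_top_iff]
  refine ⟨fun h => Subgroup.mem_center_iff.mpr fun x => (mem_cent.mp (h (mem_top x))).eq,
    fun h x _ => mem_cent.mpr (Subgroup.mem_center_iff.mp h x)⟩

theorem cs_dvd_of_mem_zpowers {g h : G} (hh : h ∈ zpowers g) : cs h ∣ cs g :=
  index_dvd_of_le (cent_le_of_mem_zpowers hh)

theorem cent_mul_central {g z : G} (hz : z ∈ center G) :
    centralizer ({g * z} : Set G) = centralizer ({g} : Set G) := by
  ext x
  simp only [mem_cent]
  have hxz : x * z = z * x := Subgroup.mem_center_iff.mp hz x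
  constructor
  · intro h
    have h' : x * g * z = g * x * z := by
      calc x * g * z = x * (g * z) := mul_assoc _ _ _
        _ = g * z * x := h.eq
        _ = g * x * z := by rw [mul_assoc, ← hxz, ← mul_assoc]
    exact mul_right_cancel h'
  · intro h
    exact h.mul_right hxz

theorem cent_conj (g h : G) : centralizer ({h * g * h⁻¹} : Set G) =
    (centralizer ({g} : Set G)).map (MulAut.conj h).toMonoidHom := by
  ext x
  rw [mem_map_equiv, mem_cent, mem_cent, MulAut.conj_symm_apply]
  constructor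
  · intro e
    have := congrArg (fun t => h⁻¹ * t * h) e.eq
    simp only [mul_assoc, inv_mul_cancel_left, inv_mul_cancel, mul_one] at this
    show h⁻¹ * x * h * g = g * (h⁻¹ * x * h)
    simp only [mul_assoc]
    exact this
  · intro e
    have := congrArg (fun t => h * t * h⁻¹) e.eq
    simp only [mul_assoc, mul_inv_cancel_left, mul_inv_cancel, mul_one] at this
    show x * (h * g * h⁻¹) = h * g * h⁻¹ * x
    simp only [mul_assoc]
    exact this

theorem cs_conj (g h : G) : cs (h * g * h⁻¹) = cs g := by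
  rw [cs, cs, cent_conj]
  exact index_map_of_bijective (f := (MulAut.conj h).toMonoidHom) (MulEquiv.bijective _) _

/-- The conjugacy class as a set. -/
def cls (g : G) : Set G := Set.range fun x : G => x * g * x⁻¹

theorem conj_eq_iff {g x y : G} :
    x * g * x⁻¹ = y * g * y⁻¹ ↔ x⁻¹ * y ∈ centralizer ({g} : Set G) := by
  rw [mem_cent]
  constructor
  · intro e
    show x⁻¹ * y * g = g * (x⁻¹ * y)
    calc x⁻¹ * y * g = x⁻¹ * (y * g * y⁻¹) * y := by group
      _ = x⁻¹ * (x * g * x⁻¹) * y := by rw [e]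
      _ = g * (x⁻¹ * y) := by group
  · intro e
    calc x * g * x⁻¹ = x * (g * (x⁻¹ * y)) * y⁻¹ := by group
      _ = x * (x⁻¹ * y * g) * y⁻¹ := by rw [e.eq]
      _ = y * g * y⁻¹ := by group

theorem card_cls [Finite G] (g : G) : Nat.card (cls g) = cs g := by
  refine (Nat.card_eq_of_bijective (α := G ⧸ centralizer ({g} : Set G))
    (Quotient.lift (fun x : G => (⟨x * g * x⁻¹, x, rfl⟩ : cls g)) ?_) ⟨?_, ?_⟩).symm
  · intro a b hab
    exact Subtype.ext (conj_eq_iff.mpr (QuotientGroup.leftRel_apply.mp hab))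
  · intro a b
    induction a using Quotient.inductionOn' with
    | _ a =>
      induction b using Quotient.inductionOn' with
      | _ b =>
        intro e
        exact Quotient.sound' (QuotientGroup.leftRel_apply.mpr
          (conj_eq_iff.mp (congrArg Subtype.val e)))
  · rintro ⟨_, x, rfl⟩
    exact ⟨Quotient.mk'' x, rfl⟩

theorem index_inf_of_coprime [Finite G] {A B : Subgroup G} (h : A.index.Coprime B.index) :
    (A ⊓ B).index = A.index * B.index :=
  le_antisymm (index_inf_le)
    (Nat.le_of_dvd (Nat.pos_of_ne_zero index_ne_zero_of_finite)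
      (h.mul_dvd_of_dvd_of_dvd (index_dvd_of_le inf_le_left) (index_dvd_of_le inf_le_right)))

theorem exists_mul_of_coprime [Finite G] {A B : Subgroup G} (h : A.index.Coprime B.index) (g : G) :
    ∃ a ∈ A, ∃ b ∈ B, g = a * b := by
  have hrel : (B.subgroupOf A).index = B.index := by
    have h1 := relIndex_mul_index (inf_le_left : A ⊓ B ≤ A)
    rw [index_inf_of_coprime h, inf_relIndex_left, mul_comm A.index] at h1
    exact Nat.eq_of_mul_eq_mul_right (Nat.pos_of_ne_zero index_ne_zero_of_finite) h1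
  let f : A ⧸ B.subgroupOf A → G ⧸ B := Quotient.lift (fun a : A => ((a : G) : G ⧸ B))
    fun a b hab => QuotientGroup.eq.mpr (by
      have := QuotientGroup.leftRel_apply.mp hab
      simpa [mem_subgroupOf] using this)
  have hf : Function.Injective f := by
    intro a b
    induction a using Quotient.inductionOn' with
    | _ a =>
      induction b using Quotient.inductionOn' with
      | _ b =>
        intro e
        refine Quotient.sound' (QuotientGroup.leftRel_apply.mpr ?_)
        rw [mem_subgroupOf, coe_mul, coe_inv]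
        exact QuotientGroup.eq.mp e
  have hb := (Nat.bijective_iff_injective_and_card f).mpr ⟨hf, hrel⟩
  obtain ⟨q, hq⟩ := hb.2 (g : G ⧸ B)
  induction q using Quotient.inductionOn' with
  | _ a => exact ⟨a, a.2, (a : G)⁻¹ * g, QuotientGroup.eq.mp hq, (mul_inv_cancel_left _ _).symm⟩

/-- Two elements with coprime class sizes: every pair of conjugates is conjugate to the pair. -/
theorem simul [Finite G] {a b : G} (h : (cs a).Coprime (cs b)) (g k : G) :
    ∃ x : G, x * a * x⁻¹ = g * a * g⁻¹ ∧ x * b * x⁻¹ = k * b * k⁻¹ := by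
  obtain ⟨c, hc, d, hd, hcd⟩ := exists_mul_of_coprime h (g⁻¹ * k)
  refine ⟨g * c, (conj_eq_iff.mpr ?_).symm, (conj_eq_iff.mpr ?_).symm⟩
  · rwa [inv_mul_cancel_left]
  · have : k⁻¹ * (g * c) = d⁻¹ := by
      have : k = g * (c * d) := by rw [← hcd, mul_inv_cancel_left]
      rw [this]; group
    rw [this]; exact inv_mem hd

theorem mul_conj_mem_cls [Finite G] {a b : G} (h : (cs a).Coprime (cs b)) (g k : G) :
    g * a * g⁻¹ * (k * b * k⁻¹) ∈ cls (a * b) := by
  obtain ⟨x, hxa, hxb⟩ := simul h g k
  refine ⟨x, ?_⟩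
  show x * (a * b) * x⁻¹ = _
  rw [← hxa, ← hxb]; group

theorem cs_le_cs_mul [Finite G] {a b : G} (h : (cs a).Coprime (cs b)) : cs b ≤ cs (a * b) := by
  rw [← card_cls, ← card_cls]
  refine Nat.card_le_card_of_injective
    (fun t : cls b => (⟨a * t, ?_⟩ : cls (a * b))) fun s t e => ?_
  · obtain ⟨k, hk⟩ := t.2
    rw [← hk]
    have := mul_conj_mem_cls h 1 k
    simpa using this
  · exact Subtype.ext (mul_left_cancel (congrArg Subtype.val e))

theorem cs_mul_dvd [Finite G] {a b : G} (h : (cs a).Coprime (cs b)) :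
    cs (a * b) ∣ cs a * cs b := by
  rw [cs, cs, ← index_inf_of_coprime h]
  refine index_dvd_of_le fun x hx => mem_cent.mpr ?_
  exact (mem_cent.mp hx.1).mul_right (mem_cent.mp hx.2)

/-- If `|class (ab)| = |class b|`, the commutators `a⁻¹ a^g` stabilise the class of `b`. -/
theorem exists_stabilizer [Finite G] {a b : G} (h : (cs a).Coprime (cs b))
    (he : cs (a * b) = cs b) :
    ∃ M : Subgroup G, M.Normal ∧ (∀ g : G, a⁻¹ * (g * a * g⁻¹) ∈ M) ∧ Nat.card M ∣ cs b := by
  classical
  let f : G → cls b → cls (a * b) := fun g t => ⟨g * a * g⁻¹ * t, by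
    obtain ⟨k, hk⟩ := t.2
    rw [← hk]; exact mul_conj_mem_cls h g k⟩
  have hbij : ∀ g, Function.Bijective (f g) := fun g =>
    (Nat.bijective_iff_injective_and_card _).mpr
      ⟨fun s t e => Subtype.ext (mul_left_cancel (congrArg Subtype.val e)),
        by rw [card_cls, card_cls, he]⟩
  let S : Subgroup G :=
    { carrier := {s | ∀ t, t ∈ cls b ↔ s * t ∈ cls b}
      one_mem' := fun t => by rw [one_mul]
      mul_mem' := fun {r s} hr hs t => by rw [mul_assoc, hs t, hr (s * t)]
      inv_mem' := fun {r} hr t => by rw [hr (r⁻¹ * t), mul_inv_cancel_left] }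
  set C : Set G := {d | ∃ g : G, d = a⁻¹ * (g * a * g⁻¹)} with hC
  have hCS : C ⊆ S := by
    rintro _ ⟨g, rfl⟩ t
    constructor
    · intro ht
      obtain ⟨⟨s, hs⟩, hst⟩ := (hbij 1).2 (f g ⟨t, ht⟩)
      have e : a * s = g * a * g⁻¹ * t := by simpa [f] using congrArg Subtype.val hst
      have : a⁻¹ * (g * a * g⁻¹) * t = s := by rw [mul_assoc, ← e, inv_mul_cancel_left]
      rwa [this]
    · intro ht
      obtain ⟨⟨s, hs⟩, hst⟩ := (hbij g).2 (f 1 ⟨_, ht⟩)
      have e : g * a * g⁻¹ * s = a * (a⁻¹ * (g * a * g⁻¹) * t) := by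
        simpa [f] using congrArg Subtype.val hst
      rw [← mul_assoc, mul_inv_cancel_left] at e
      rwa [← mul_left_cancel e]
  refine ⟨closure C, ⟨?_⟩, fun g => subset_closure ⟨g, rfl⟩, ?_⟩
  · intro d hd k
    have hmap := MonoidHom.map_closure (MulAut.conj k).toMonoidHom C
    have hmem : (MulAut.conj k).toMonoidHom d ∈ closure ((MulAut.conj k).toMonoidHom '' C) := by
      rw [← hmap]; exact mem_map_of_mem _ hd
    refine (closure_le _).mpr ?_ hmem
    rintro _ ⟨_, ⟨g, rfl⟩, rfl⟩
    have h1 : (MulAut.conj k).toMonoidHom (a⁻¹ * (g * a * g⁻¹)) =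
        (a⁻¹ * (k * a * k⁻¹))⁻¹ * (a⁻¹ * ((k * g) * a * (k * g)⁻¹)) := by
      simp only [MulEquiv.coe_toMonoidHom, MulAut.conj_apply]
      group
    rw [h1]
    exact mul_mem (inv_mem (subset_closure ⟨k, rfl⟩)) (subset_closure ⟨k * g, rfl⟩)
  · have hle : closure C ≤ S := (closure_le S).mpr hCS
    letI : MulAction (closure C) (cls b) :=
      { smul := fun s t => ⟨(s : G) * t, (hle s.2 t).mp t.2⟩
        one_smul := fun t => Subtype.ext (one_mul _)
        mul_smul := fun r s t => Subtype.ext (mul_assoc _ _ _) }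
    have hfree : ∀ t : cls b, MulAction.stabilizer (closure C) t = ⊥ := by
      intro t
      rw [eq_bot_iff_forall]
      intro s hs
      have hst : (s : G) * (t : G) = t := congrArg Subtype.val (MulAction.mem_stabilizer_iff.mp hs)
      exact Subtype.ext (mul_eq_right.mp hst)
    haveI := Fintype.ofFinite (cls b)
    haveI := Fintype.ofFinite (MulAction.orbitRel.Quotient (closure C) (cls b))
    have h2 := Nat.card_congr (MulAction.selfEquivSigmaOrbits (closure C) (cls b))
    rw [Nat.card_sigma] at h2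
    rw [← card_cls, h2]
    refine Finset.dvd_sum fun ω _ => ?_
    rw [Nat.card_congr (MulAction.orbitEquivQuotientStabilizer (closure C) _), hfree,
      ← Subgroup.index, index_bot]

/-- Conjugates of a `p`-element `a` with `|class a|` coprime to the order of the group of its
commutators commute, and `p` divides that order. -/
theorem commute_conj_of_stabilizer [Finite G] {p : ℕ} (hp : p.Prime) {a : G}
    (hpa : ∃ k, orderOf a = p ^ k) (ha : cs a ≠ 1) {M : Subgroup G} (hMn : M.Normal)
    (hM : ∀ g : G, a⁻¹ * (g * a * g⁻¹) ∈ M) (hcop : (cs a).Coprime (Nat.card M)) :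
    p ∣ Nat.card M ∧ ∀ g : G, Commute a (g * a * g⁻¹) := by
  have hMC : M ≤ centralizer ({a} : Set G) := by
    haveI := hMn
    have h1 : (centralizer ({a} : Set G)).relIndex M ∣ Nat.card M := relIndex_dvd_card _ _
    have h2 : (centralizer ({a} : Set G)).relIndex M ∣ cs a := by
      obtain ⟨k, hk⟩ := relIndex_dvd_index_of_normal M (centralizer ({a} : Set G))
      have e1 := relIndex_mul_index (inf_le_left : M ⊓ centralizer ({a} : Set G) ≤ M)
      have e2 := relIndex_mul_index (inf_le_right : M ⊓ centralizer ({a} : Set G) ≤ centralizer {a})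
      rw [inf_relIndex_left] at e1
      rw [inf_relIndex_right, ← e1, hk] at e2
      have hpos : 0 < M.relIndex (centralizer ({a} : Set G)) :=
        Nat.pos_of_ne_zero fun h0 => M.index_ne_zero_of_finite (by rw [hk, h0, zero_mul])
      refine ⟨k, Nat.eq_of_mul_eq_mul_left hpos ?_⟩
      show M.relIndex (centralizer ({a} : Set G)) * (centralizer ({a} : Set G)).index = _
      rw [e2]; ring
    exact relIndex_eq_one.mp (Nat.eq_one_of_dvd_coprimes hcop.symm h1 h2)
  have hcomm : ∀ g : G, Commute a (g * a * g⁻¹) := fun g => by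
    have h1 : Commute a (a⁻¹ * (g * a * g⁻¹)) := (mem_cent.mp (hMC (hM g))).symm
    have := (Commute.refl a).mul_right h1
    rwa [mul_inv_cancel_left] at this
  refine ⟨?_, hcomm⟩
  by_contra hpM
  refine ha (cs_eq_one_iff.mpr (Subgroup.mem_center_iff.mpr fun g => ?_))
  obtain ⟨k, hk⟩ := hpa
  have h1 : (a⁻¹ * (g * a * g⁻¹)) ^ p ^ k = 1 := by
    rw [((hcomm g).inv_left).mul_pow, inv_pow, ← hk, pow_orderOf_eq_one, inv_one, one_mul,
      ← MulAut.conj_apply, ← map_pow, pow_orderOf_eq_one, map_one]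
  have h2 : orderOf (a⁻¹ * (g * a * g⁻¹)) = 1 :=
    Nat.eq_one_of_dvd_coprimes (Nat.Coprime.pow_left k (hp.coprime_iff_not_dvd.mpr hpM))
      (orderOf_dvd_of_pow_eq_one h1) (Subgroup.orderOf_dvd_natCard M (hM g))
  rw [orderOf_eq_one_iff, inv_mul_eq_one] at h2
  have h3 := congrArg (· * g) h2
  simp only [inv_mul_cancel_right] at h3
  exact h3.symm

/-- An element belongs to `H` as soon as all of its prime-power parts do. -/
theorem mem_of_parts [Finite G] {H : Subgroup G} {f : G}
    (h : ∀ r : ℕ, r.Prime → ∀ g ∈ zpowers f, (∃ k, orderOf g = r ^ k) → g ∈ H) : f ∈ H := by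
  have hd : Nat.card (zpowers f) ∣ Nat.card (H ⊓ zpowers f : Subgroup G) := by
    rw [Nat.card_zpowers, Nat.dvd_iff_prime_pow_dvd_dvd]
    intro r k hr hk
    have ho : orderOf (f ^ (orderOf f / r ^ k)) = r ^ k :=
      orderOf_pow_orderOf_div (orderOf_pos f).ne' hk
    have hm : f ^ (orderOf f / r ^ k) ∈ (H ⊓ zpowers f : Subgroup G) :=
      mem_inf.2 ⟨h r hr _ (pow_mem (mem_zpowers f) _) ⟨k, ho⟩, pow_mem (mem_zpowers f) _⟩
    rw [← ho, ← Subgroup.orderOf_mk (f ^ (orderOf f / r ^ k)) hm]
    exact orderOf_dvd_natCard _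
  have he : H ⊓ zpowers f = zpowers f :=
    eq_of_le_of_card_ge inf_le_right (Nat.le_of_dvd Nat.card_pos hd)
  exact (inf_eq_right.mp he) (mem_zpowers f)

/-- Elements of coprime order commuting: the centraliser of the product. -/
theorem cent_mul_of_coprime [Finite G] {a b : G} (hc : Commute a b)
    (hcop : (orderOf a).Coprime (orderOf b)) :
    centralizer ({a * b} : Set G) = centralizer ({a} : Set G) ⊓ centralizer ({b} : Set G) := by
  refine le_antisymm (fun x hx => ?_)
    (fun x hx => mem_cent.mpr ((mem_cent.mp hx.1).mul_right (mem_cent.mp hx.2)))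
  have hx' := mem_cent.mp hx
  obtain ⟨e, he1, he2⟩ := Nat.chineseRemainder hcop 1 0
  have ha : (a * b) ^ e = a := by
    rw [hc.mul_pow, (pow_eq_pow_iff_modEq.mpr he1), pow_one,
      (pow_eq_pow_iff_modEq.mpr he2), pow_zero, mul_one]
  have h1 : Commute x a := ha ▸ hx'.pow_right e
  refine ⟨mem_cent.mpr h1, mem_cent.mpr ?_⟩
  have h2 := h1.inv_right.mul_right hx'
  rwa [inv_mul_cancel_left] at h2

/-- If `p` does not divide `|G : H|`, every `p`-element has a conjugate in `H`. -/
theorem exists_conj_mem [Finite G] {p : ℕ} (hp : p.Prime) {H : Subgroup G} (hH : ¬ p ∣ H.index)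
    {g : G} (hg : ∃ k, orderOf g = p ^ k) : ∃ c : G, c * g * c⁻¹ ∈ H := by
  haveI := Fact.mk hp
  obtain ⟨S⟩ : Nonempty (Sylow p H) := inferInstance
  have hS : IsPGroup p ((S : Subgroup H).map H.subtype) := S.2.map _
  obtain ⟨Q, hQ⟩ := hS.exists_le_sylow
  have hQeq : ((S : Subgroup H).map H.subtype) = (Q : Subgroup G) := by
    refine eq_of_le_of_card_ge hQ ?_
    rw [card_map_of_injective H.subtype_injective, S.card_eq_multiplicity, Q.card_eq_multiplicity,
      ← H.card_mul_index, Nat.factorization_mul Nat.card_pos.ne' index_ne_zero_of_finite,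
      Finsupp.add_apply, Nat.factorization_eq_zero_of_not_dvd hH, add_zero]
  obtain ⟨k, hk⟩ := hg
  have hgp : IsPGroup p (zpowers g) := IsPGroup.iff_card.mpr ⟨k, by rw [Nat.card_zpowers, hk]⟩
  obtain ⟨R, hR⟩ := hgp.exists_le_sylow
  obtain ⟨c, hc⟩ := MulAction.exists_smul_eq G R Q
  refine ⟨c, map_subtype_le (S : Subgroup H) ?_⟩
  rw [hQeq, ← hc, Sylow.coe_subgroup_smul]
  exact Subgroup.smul_mem_pointwise_smul g (MulAut.conj c) R.toSubgroup (hR (mem_zpowers g))

/-- In a cyclic subgroup an element is a power of any element whose order it divides. -/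
theorem mem_zpowers_of_orderOf_dvd [Finite G] {x u v : G} (hu : u ∈ zpowers x) (hv : v ∈ zpowers x)
    (h : orderOf u ∣ orderOf v) : u ∈ zpowers v := by
  set K := zpowers u ⊔ zpowers v with hK
  have hKle : K ≤ zpowers x := sup_le (zpowers_le.mpr hu) (zpowers_le.mpr hv)
  haveI : IsCyclic K := Subgroup.isCyclic_of_le hKle
  have hexp : Monoid.exponent K ∣ orderOf v := by
    refine Monoid.exponent_dvd_of_forall_pow_eq_one fun z => Subtype.ext ?_
    rw [SubmonoidClass.coe_pow, OneMemClass.coe_one]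
    let S : Subgroup G :=
      { carrier := {t | t ∈ zpowers x ∧ t ^ orderOf v = 1}
        one_mem' := ⟨one_mem _, one_pow _⟩
        mul_mem' := fun {a b} ha hb => ⟨mul_mem ha.1 hb.1, by
          obtain ⟨i, hi⟩ := mem_zpowers_iff.mp ha.1
          obtain ⟨j, hj⟩ := mem_zpowers_iff.mp hb.1
          have hc : Commute a b := by rw [← hi, ← hj]; exact (Commute.refl x).zpow_zpow i j
          rw [hc.mul_pow, ha.2, hb.2, one_mul]⟩
        inv_mem' := fun {a} ha => ⟨inv_mem ha.1, by rw [inv_pow, ha.2, inv_one]⟩ }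
    have hKS : K ≤ S := sup_le (zpowers_le.mpr ⟨hu, orderOf_dvd_iff_pow_eq_one.mp h⟩)
      (zpowers_le.mpr ⟨hv, pow_orderOf_eq_one v⟩)
    exact (hKS z.2).2
  rw [IsCyclic.exponent_eq_card] at hexp
  have : K = zpowers v := (eq_of_le_of_card_ge le_sup_right
    ((Nat.le_of_dvd (orderOf_pos v) hexp).trans (Nat.card_zpowers v).ge)).symm
  exact this ▸ (le_sup_left : zpowers u ≤ K) (mem_zpowers u)

end Cfsg.Lib.ClassSize
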