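import Mathlib
import Cfsg.Agent.ClassSize.Basic

/-!
# Groups whose two largest class sizes are coprime: first properties
-/

set_option autoImplicit false
set_option linter.unusedSectionVars false
set_option linter.style.haveILetI false

namespace Cfsg.Lib.ClassSize

open Subgroup

universe u

variable {G : Type u} [Group G] [Finite G]

/-- `m > n > 1` are the two largest class sizes, and they are coprime. -/
structure Top (G : Type u) [Group G] (m n : ℕ) : Prop where
  lt : n < m
  one_lt : 1 < n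
  cop : m.Coprime n
  le : ∀ z : G, cs z ≤ m
  le' : ∀ z : G, cs z < m → cs z ≤ n
  exn : ∃ z : G, cs z = n
  exm : ∃ z : G, cs z = m

namespace Top

variable {m n : ℕ} (hT : Top G m n)
include hT

theorem m_one_lt : 1 < m := lt_trans hT.one_lt hT.lt

theorem ne : m ≠ n := hT.lt.ne'

/-- A `p`-element whose class size is coprime to `m` and not `1`. -/
theorem of_coprime_m {p : ℕ} (hp : p.Prime) {u : G} (hu : ∃ k, orderOf u = p ^ k)
    (h1 : cs u ≠ 1) (hcop : (cs u).Coprime m) : p ∣ m ∧ ∀ g : G, Commute u (g * u * g⁻¹) := by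
  obtain ⟨y, hy⟩ := hT.exm
  have hc : (cs u).Coprime (cs y) := by rwa [hy]
  have he : cs (u * y) = cs y := le_antisymm (hy ▸ hT.le _) (cs_le_cs_mul hc)
  obtain ⟨M, hMn, hM, hMd⟩ := exists_stabilizer hc he
  rw [hy] at hMd
  obtain ⟨hpM, hcomm⟩ := commute_conj_of_stabilizer hp hu h1 hMn hM (hcop.coprime_dvd_right hMd)
  exact ⟨hpM.trans hMd, hcomm⟩

/-- A part of an element of class size `n` is central or has prime dividing `m`. -/
theorem part_of_n {p : ℕ} (hp : p.Prime) {x u : G} (hx : cs x = n) (hux : u ∈ zpowers x)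
    (hu : ∃ k, orderOf u = p ^ k) :
    u ∈ center G ∨ (p ∣ m ∧ ∀ g : G, Commute u (g * u * g⁻¹)) := by
  by_cases h1 : cs u = 1
  · exact Or.inl (cs_eq_one_iff.mp h1)
  · exact Or.inr (hT.of_coprime_m hp hu h1
      ((hT.cop.coprime_dvd_right (hx ▸ cs_dvd_of_mem_zpowers hux)).symm))

/-- An element of class size `n` with order prime to `n` and commuting with all its conjugates. -/
def Reduced (x : G) (n : ℕ) : Prop :=
  cs x = n ∧ (orderOf x).Coprime n ∧ ∀ g : G, Commute x (g * x * g⁻¹)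

omit hT in
theorem commute_of_classes {p r : ℕ} (hp : p.Prime) (hr : r.Prime) (hpr : p ≠ r) {u v : G}
    (hu : ∃ k, orderOf u = p ^ k) (hv : ∃ k, orderOf v = r ^ k)
    (hcu : ∀ g : G, Commute u (g * u * g⁻¹)) (hcv : ∀ g : G, Commute v (g * v * g⁻¹)) :
    Commute u v := by
  haveI := Fact.mk hp
  haveI := Fact.mk hr
  have key : ∀ {q : ℕ} {w : G}, (∃ k, orderOf w = q ^ k) → (∀ g : G, Commute w (g * w * g⁻¹)) →
      IsPGroup q (normalClosure ({w} : Set G)) := by
    intro q w hw hcw
    obtain ⟨k, hk⟩ := hw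
    have hset : ∀ a ∈ Group.conjugatesOfSet ({w} : Set G), ∃ g : G, g * w * g⁻¹ = a := by
      intro a ha
      obtain ⟨b, hb, hba⟩ := Group.mem_conjugatesOfSet_iff.mp ha
      rw [Set.mem_singleton_iff] at hb
      subst hb
      exact isConj_iff.mp hba
    have hcc : ∀ a ∈ Group.conjugatesOfSet ({w} : Set G),
        ∀ b ∈ Group.conjugatesOfSet ({w} : Set G), a * b = b * a := by
      intro a ha b hb
      obtain ⟨g, rfl⟩ := hset a ha
      obtain ⟨h, rfl⟩ := hset b hb
      have := (hcw (g⁻¹ * h)).map (MulAut.conj g).toMonoidHom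
      simp only [MulEquiv.coe_toMonoidHom, MulAut.conj_apply] at this
      rw [show g * (g⁻¹ * h * w * (g⁻¹ * h)⁻¹) * g⁻¹ = h * w * h⁻¹ by group] at this
      exact this.eq
    haveI : IsMulCommutative (normalClosure ({w} : Set G)) :=
      isMulCommutative_closure hcc
    intro z
    refine ⟨k, ?_⟩
    apply Subtype.ext
    rw [SubmonoidClass.coe_pow, OneMemClass.coe_one]
    refine closure_induction (p := fun t _ => t ^ q ^ k = 1) ?_ (one_pow _) ?_ ?_ z.2
    · intro a ha
      obtain ⟨g, rfl⟩ := hset a ha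
      rw [← MulAut.conj_apply, ← map_pow, ← hk, pow_orderOf_eq_one, map_one]
    · intro a b ha hb iha ihb
      have hab : Commute a b := congrArg Subtype.val
        ((IsMulCommutative.is_comm (M := normalClosure ({w} : Set G))).comm ⟨a, ha⟩ ⟨b, hb⟩)
      rw [hab.mul_pow, iha, ihb, one_mul]
    · intro a _ iha
      rw [inv_pow, iha, inv_one]
  exact Subgroup.commute_of_normal_of_disjoint _ _ inferInstance inferInstance
    ((key hu hcu).disjoint_of_ne p r hpr _ _ (key hv hcv)) u v
    (subset_normalClosure rfl) (subset_normalClosure rfl)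

theorem exists_reduced {x : G} (hx : cs x = n) :
    ∃ x₀ : G, Reduced x₀ n ∧ centralizer ({x₀} : Set G) = centralizer ({x} : Set G) := by
  classical
  -- parts with prime not dividing `m` are central
  set Q := centralizer (↑(zpowers x) : Set G) with hQ
  set N := orderOf x with hN
  set N₂ := N.gcd (n ^ N) with hN₂
  have hN₂d : N₂ ∣ N := Nat.gcd_dvd_left _ _
  set N₁ := N / N₂ with hN₁
  have hprod : N₁ * N₂ = N := Nat.div_mul_cancel hN₂d
  have hNpos : 0 < N := orderOf_pos x
  have hN₂pos : 0 < N₂ := Nat.gcd_pos_of_pos_left _ hNpos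
  have hN₁pos : 0 < N₁ := Nat.pos_of_ne_zero fun h => by rw [h, zero_mul] at hprod; omega
  have hN₁n : N₁.Coprime n := by
    rw [Nat.coprime_iff_gcd_eq_one]
    by_contra hne
    obtain ⟨r, hr, hrd⟩ := Nat.exists_prime_and_dvd hne
    have hr1 := hrd.trans (Nat.gcd_dvd_left _ _)
    have hr2 := hrd.trans (Nat.gcd_dvd_right _ _)
    have h1 : r ^ (N.factorization r) ∣ N₂ := Nat.dvd_gcd (Nat.ordProj_dvd N r)
      ((pow_dvd_pow_of_dvd hr2 _).trans (pow_dvd_pow n (Nat.factorization_le_of_le_pow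
        (Nat.lt_pow_self hr.one_lt).le)))
    have h2 : r ^ (N.factorization r + 1) ∣ N := by
      rw [pow_succ]
      exact (Nat.mul_dvd_mul h1 hr1).trans (dvd_of_eq (by rw [mul_comm, hprod]))
    exact (Nat.pow_succ_factorization_not_dvd hNpos.ne' hr) h2
  have hN₂primes : ∀ r : ℕ, r.Prime → r ∣ N₂ → r ∣ n := fun r hr h =>
    hr.dvd_of_dvd_pow (h.trans (Nat.gcd_dvd_right _ _))
  have hcop : N₁.Coprime N₂ := (hN₁n.pow_right N).coprime_dvd_right (Nat.gcd_dvd_right _ _)
  obtain ⟨e, he1, he2⟩ := Nat.chineseRemainder hcop 1 0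
  set x₀ := x ^ e with hx₀
  have hz : x₀⁻¹ * x ∈ center G := by
    refine mem_of_parts fun r hr g hg hgo => ?_
    have hgx : g ∈ zpowers x :=
      (zpowers_le.mpr (mul_mem (inv_mem (pow_mem (mem_zpowers x) e)) (mem_zpowers x))) hg
    rcases hT.part_of_n hr hx hgx hgo with h | ⟨hrm, -⟩
    · exact h
    · obtain ⟨k, hk⟩ := hgo
      have hd : orderOf g ∣ N₂ := by
        refine (orderOf_dvd_of_mem_zpowers hg).trans (orderOf_dvd_of_pow_eq_one ?_)
        rw [((Commute.pow_self x e).inv_left).mul_pow, inv_pow, ← pow_mul,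
          inv_mul_eq_one]
        refine pow_eq_pow_iff_modEq.mpr ?_
        rw [← hN, ← hprod, mul_comm N₁ N₂, mul_comm e]
        simpa using Nat.ModEq.mul_left' N₂ he1
      rcases k with _ | k
      · rw [pow_zero, orderOf_eq_one_iff] at hk
        rw [hk]; exact one_mem _
      · exact absurd (Nat.eq_one_of_dvd_coprimes hT.cop hrm
          (hN₂primes r hr ((dvd_pow_self r k.succ_ne_zero).trans (hk ▸ hd)))) hr.ne_one
  have hxeq : x = x₀ * (x₀⁻¹ * x) := by rw [mul_inv_cancel_left]
  have hC : centralizer ({x₀} : Set G) = centralizer ({x} : Set G) := by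
    conv_rhs => rw [hxeq, cent_mul_central hz]
  refine ⟨x₀, ⟨?_, ?_, ?_⟩, hC⟩
  · rw [cs, hC]; exact hx
  · refine hN₁n.coprime_dvd_left (orderOf_dvd_of_pow_eq_one ?_)
    rw [hx₀, ← pow_mul, ← orderOf_dvd_iff_pow_eq_one, ← hN, ← hprod, mul_comm e]
    exact Nat.mul_dvd_mul_left N₁ ((Nat.modEq_zero_iff_dvd).mp he2)
  · intro g
    have hmap : ∀ v ∈ zpowers x₀, v ∈ zpowers x := fun v hv =>
      (zpowers_le.mpr (pow_mem (mem_zpowers x) e)) hv
    suffices x₀ ∈ centralizer ({g * x₀ * g⁻¹} : Set G) from mem_cent.mp this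
    refine mem_of_parts fun r hr u hu huo => mem_cent_comm.mp ?_
    -- now show the conjugate commutes with the part `u`
    suffices x₀ ∈ (centralizer ({u} : Set G)).comap (MulAut.conj g).toMonoidHom from this
    refine mem_of_parts fun r' hr' v hv hvo => mem_cent.mpr ?_
    show Commute (g * v * g⁻¹) u
    rcases hT.part_of_n hr hx (hmap u hu) huo with hu1 | ⟨-, hu1⟩
    · exact Subgroup.mem_center_iff.mp hu1 _
    rcases hT.part_of_n hr' hx (hmap v hv) hvo with hv1 | ⟨-, hv1⟩
    · have : g * v * g⁻¹ = v := by rw [Subgroup.mem_center_iff.mp hv1 g]; group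
      rw [this]
      exact (Subgroup.mem_center_iff.mp hv1 u).symm
    by_cases hrr : r' = r
    · -- same prime: both lie in `⟨x₀⟩`, powers of a common part
      subst hrr
      obtain ⟨a, hka⟩ := huo
      obtain ⟨b, hkb⟩ := hvo
      rcases le_total a b with hab | hab
      · have huv : u ∈ zpowers v := by
          have h1 : zpowers u ≤ zpowers x₀ := zpowers_le.mpr hu
          have h2 : zpowers v ≤ zpowers x₀ := zpowers_le.mpr hv
          exact mem_zpowers_of_orderOf_dvd hu hv (hka ▸ hkb ▸ pow_dvd_pow r' hab)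
        obtain ⟨i, rfl⟩ := mem_zpowers_iff.mp huv
        exact (hv1 g).symm.zpow_right i
      · have hvu : v ∈ zpowers u := mem_zpowers_of_orderOf_dvd hv hu (hka ▸ hkb ▸ pow_dvd_pow r' hab)
        obtain ⟨i, rfl⟩ := mem_zpowers_iff.mp hvu
        rw [← conj_zpow]
        exact (hu1 g).symm.zpow_left i
    · have hgv : ∀ h : G, Commute (g * v * g⁻¹) (h * (g * v * g⁻¹) * h⁻¹) := fun h => by
        have := (hv1 (g⁻¹ * h * g)).map (MulAut.conj g).toMonoidHom
        simp only [MulEquiv.coe_toMonoidHom, MulAut.conj_apply] at this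
        rwa [show g * (g⁻¹ * h * g * v * (g⁻¹ * h * g)⁻¹) * g⁻¹ = h * (g * v * g⁻¹) * h⁻¹ by
          group] at this
      refine commute_of_classes hr' hr hrr ?_ huo hgv hu1
      obtain ⟨b, hkb⟩ := hvo
      exact ⟨b, by rw [← MulAut.conj_apply, MulEquiv.orderOf_eq, hkb]⟩

/-- A `p`-element with class size coprime to `n` has class size `1` or `m`. -/
theorem of_coprime_n {p : ℕ} (hp : p.Prime) {u : G} (hu : ∃ k, orderOf u = p ^ k)
    (hcop : (cs u).Coprime n) : cs u = 1 ∨ cs u = m := by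
  by_contra hne
  push Not at hne
  obtain ⟨x', hx'⟩ := hT.exn
  obtain ⟨x, ⟨hx, hxo, hxc⟩, -⟩ := hT.exists_reduced hx'
  have hc : (cs u).Coprime (cs x) := by rwa [hx]
  have hlt : cs u < m := lt_of_le_of_ne (hT.le u) hne.2
  have hge : n ≤ cs (u * x) := hx ▸ cs_le_cs_mul hc
  have hne' : cs (u * x) ≠ m := fun h => by
    have := cs_mul_dvd hc
    rw [h, hx] at this
    exact absurd (Nat.le_of_dvd (Nat.pos_of_ne_zero index_ne_zero_of_finite)
      (hT.cop.dvd_of_dvd_mul_right this)) (not_le.mpr hlt)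
  have he : cs (u * x) = cs x := by
    rw [hx]
    exact le_antisymm (hT.le' _ (lt_of_le_of_ne (hT.le _) hne')) hge
  obtain ⟨M, hMn, hM, hMd⟩ := exists_stabilizer hc he
  obtain ⟨hpM, hcomm⟩ := commute_conj_of_stabilizer hp hu hne.1 hMn hM (hc.coprime_dvd_right hMd)
  have hpn : p ∣ n := hx ▸ hpM.trans hMd
  -- `u` commutes with `x`
  have hux : Commute u x := by
    refine (mem_cent.mp (mem_of_parts fun r hr v hv hvo => ?_)).symm
    refine mem_cent.mpr ?_
    rcases hT.part_of_n hr hx hv hvo with h | ⟨hrm, hv1⟩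
    · exact (Subgroup.mem_center_iff.mp h u).symm
    · exact commute_of_classes hr hp (fun e => hp.ne_one
        (Nat.eq_one_of_dvd_coprimes hT.cop (e ▸ hrm) hpn)) hvo hu hv1 hcomm
  have hoc : (orderOf u).Coprime (orderOf x) := by
    obtain ⟨k, hk⟩ := hu
    rw [hk]
    exact Nat.Coprime.pow_left k (hp.coprime_iff_not_dvd.mpr fun hd =>
      hp.ne_one (Nat.eq_one_of_dvd_coprimes hxo hd hpn))
  have h2 : cs (u * x) = cs u * cs x := by
    rw [cs, cent_mul_of_coprime hux hoc, index_inf_of_coprime hc]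
  rw [he] at h2
  have hxpos : 0 < cs x := by rw [hx]; exact Nat.lt_of_lt_of_le one_pos hT.one_lt.le
  exact hne.1 (Nat.eq_of_mul_eq_mul_right hxpos (by rw [one_mul]; exact h2.symm))

/-- A `q`-element of class size `m`. -/
def YElt (y : G) (m q : ℕ) : Prop := cs y = m ∧ q.Prime ∧ ∃ k, orderOf y = q ^ k

/-- Every element of class size `m` has the centraliser of a part of it. -/
theorem exists_yElt {y : G} (hy : cs y = m) :
    ∃ y₀ q, YElt y₀ m q ∧ centralizer ({y₀} : Set G) = centralizer ({y} : Set G) := by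
  by_contra hcon
  push Not at hcon
  have : y ∈ center G := mem_of_parts fun r hr g hg hgo => by
    have hd := cs_dvd_of_mem_zpowers hg
    rw [hy] at hd
    rcases hT.of_coprime_n hr hgo (hT.cop.coprime_dvd_left hd) with h | h
    · exact cs_eq_one_iff.mp h
    · refine absurd ?_ (hcon g r ⟨h, hr, hgo⟩)
      refine (eq_of_le_of_card_ge (cent_le_of_mem_zpowers hg) (le_of_eq ?_)).symm
      refine Nat.eq_of_mul_eq_mul_right (Nat.pos_of_ne_zero
        (index_ne_zero_of_finite (H := centralizer ({g} : Set G)))) ?_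
      nth_rw 2 [show (centralizer ({g} : Set G)).index = (centralizer ({y} : Set G)).index from
        h.trans hy.symm]
      rw [card_mul_index, card_mul_index]
  have := cs_eq_one_iff.mpr this
  have := hT.m_one_lt
  omega

/-- In `C(y)`, `y` a `q`-element of class size `m`, the elements of order prime to `q` are
central in `C(y)`. -/
theorem central_in_cent {y : G} {q : ℕ} (hy : YElt y m q) {w : G}
    (hw : w ∈ centralizer ({y} : Set G)) {r : ℕ} (hr : r.Prime) (hwo : ∃ k, orderOf w = r ^ k)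
    (hrq : r ≠ q) : centralizer ({y} : Set G) ≤ centralizer ({w} : Set G) := by
  obtain ⟨hym, hq, k, hk⟩ := hy
  obtain ⟨j, hj⟩ := hwo
  have hc : Commute y w := (mem_cent.mp hw).symm
  have hC := cent_mul_of_coprime hc (by rw [hk, hj]; exact Nat.coprime_pow_primes _ _ hq hr hrq.symm)
  have hle : centralizer ({y * w} : Set G) ≤ centralizer ({y} : Set G) := hC ▸ inf_le_left
  have heq : centralizer ({y * w} : Set G) = centralizer ({y} : Set G) := by
    refine eq_of_le_of_card_ge hle ?_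
    have h1 := (centralizer ({y} : Set G)).card_mul_index
    have h2 := (centralizer ({y * w} : Set G)).card_mul_index
    have h3 : (centralizer ({y * w} : Set G)).index ≤ (centralizer ({y} : Set G)).index :=
      (hT.le (y * w)).trans_eq hym.symm
    refine Nat.le_of_mul_le_mul_right (c := (centralizer ({y * w} : Set G)).index) ?_
      (Nat.pos_of_ne_zero index_ne_zero_of_finite)
    rw [h2, ← h1]
    exact Nat.mul_le_mul_left _ h3
  rw [← heq, hC]
  exact inf_le_right

/-- The prime of a `q`-element of class size `m` divides `n`. -/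
theorem q_dvd_n {y : G} {q : ℕ} (hy : YElt y m q) : q ∣ n := by
  by_contra hqn
  obtain ⟨hym, hq, hyo⟩ := hy
  obtain ⟨x, hx⟩ := hT.exn
  obtain ⟨c, hc⟩ := exists_conj_mem hq (H := centralizer ({x} : Set G))
    (show ¬ q ∣ cs x by rwa [hx]) hyo
  set y' := c * y * c⁻¹ with hy'
  have hy'm : cs y' = m := (cs_conj y c).trans hym
  have hy'o : ∃ k, orderOf y' = q ^ k := by
    obtain ⟨k, hk⟩ := hyo
    exact ⟨k, by rw [hy', ← MulAut.conj_apply, MulEquiv.orderOf_eq, hk]⟩
  set B := centralizer ({y'} : Set G) with hB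
  have hxB : x ∈ B := mem_cent_comm.mp hc
  obtain ⟨r, hr, hrn⟩ := Nat.exists_prime_and_dvd hT.one_lt.ne'
  have hrm : ¬ r ∣ m := fun h => hr.ne_one (Nat.eq_one_of_dvd_coprimes hT.cop h hrn)
  haveI := Fact.mk hr
  obtain ⟨R⟩ : Nonempty (Sylow r B) := inferInstance
  set R' := (R : Subgroup B).map B.subtype with hR'
  have hRC : R' ≤ centralizer ({x} : Set G) := by
    rintro _ ⟨w, hw, rfl⟩
    obtain ⟨j, hj⟩ := IsPGroup.iff_orderOf.mp R.2 ⟨w, hw⟩
    rw [Subgroup.orderOf_mk, ← Subgroup.orderOf_coe] at hj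
    exact mem_cent_comm.mp (hT.central_in_cent ⟨hy'm, hq, hy'o⟩ w.2 hr ⟨j, hj⟩
      (fun e => hqn (e ▸ hrn)) hxB)
  have h1 : R'.index = (R : Subgroup B).index * B.index := index_map_subtype _
  have h2 : ¬ r ∣ R'.index := by
    rw [h1]
    intro h
    rcases hr.dvd_mul.mp h with h | h
    · exact R.not_dvd_index h
    · exact hrm (hy'm ▸ h)
  exact h2 (hrn.trans (hx ▸ index_dvd_of_le hRC))

theorem q_not_dvd_m {y : G} {q : ℕ} (hy : YElt y m q) : ¬ q ∣ m := fun h =>
  hy.2.1.ne_one (Nat.eq_one_of_dvd_coprimes hT.cop h (hT.q_dvd_n hy))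

/-- Elements of `C(y)` of prime-power order prime to `n` are central. -/
theorem central_of_not_dvd {y : G} {q : ℕ} (hy : YElt y m q) {b : G}
    (hb : b ∈ centralizer ({y} : Set G)) {r : ℕ} (hr : r.Prime) (hbo : ∃ k, orderOf b = r ^ k)
    (hrn : ¬ r ∣ n) : b ∈ center G := by
  have hle := hT.central_in_cent hy hb hr hbo fun e => hrn (e ▸ hT.q_dvd_n hy)
  have hd : cs b ∣ m := hy.1 ▸ index_dvd_of_le hle
  rcases hT.of_coprime_n hr hbo (hT.cop.coprime_dvd_left hd) with h | h
  · exact cs_eq_one_iff.mp h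
  · exact absurd (hT.q_dvd_n ⟨h, hr, hbo⟩) hrn

/-- `C(x) ∩ C(y) = Z(G)`. -/
theorem inter {x y : G} (hx : cs x = n) (hy : cs y = m) :
    centralizer ({x} : Set G) ⊓ centralizer ({y} : Set G) = center G := by
  obtain ⟨x₀, ⟨hx₀, hxo, -⟩, hxC⟩ := hT.exists_reduced hx
  obtain ⟨y₀, q, hy₀, hyC⟩ := hT.exists_yElt hy
  rw [← hxC, ← hyC]
  refine le_antisymm (fun b hb => mem_of_parts fun r hr w hw hwo => ?_)
    (le_inf (center_le_centralizer _) (center_le_centralizer _))
  have hwx : w ∈ centralizer ({x₀} : Set G) := zpowers_le.mpr hb.1 hw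
  have hwy : w ∈ centralizer ({y₀} : Set G) := zpowers_le.mpr hb.2 hw
  by_cases hrn : r ∣ n
  swap
  · exact hT.central_of_not_dvd hy₀ hwy hr hwo hrn
  obtain ⟨j, hj⟩ := hwo
  have hoc : (orderOf x₀).Coprime (orderOf w) := by
    rw [hj]
    exact Nat.Coprime.pow_right j (hr.coprime_iff_not_dvd.mpr fun hd =>
      hr.ne_one (Nat.eq_one_of_dvd_coprimes hxo hd hrn)).symm
  have hC := cent_mul_of_coprime (mem_cent.mp hwx).symm hoc
  have hdvd : n ∣ cs (x₀ * w) := by
    rw [cs, hC, ← hx₀]
    exact index_dvd_of_le inf_le_left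
  have hne : cs (x₀ * w) ≠ m := fun h => by
    rw [h] at hdvd
    have := Nat.eq_one_of_dvd_coprimes hT.cop hdvd dvd_rfl
    have := hT.one_lt
    omega
  have heq : cs (x₀ * w) = n := le_antisymm (hT.le' _ (lt_of_le_of_ne (hT.le _) hne))
    (Nat.le_of_dvd (Nat.pos_of_ne_zero index_ne_zero_of_finite) hdvd)
  have hd : cs w ∣ n := by
    rw [← heq, cs, cs, hC]
    exact index_dvd_of_le inf_le_right
  by_contra hwc
  have h1 : cs w ≠ 1 := fun e => hwc (cs_eq_one_iff.mp e)
  obtain ⟨hrm, -⟩ := hT.of_coprime_m hr ⟨j, hj⟩ h1 (hT.cop.coprime_dvd_right hd).symm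
  exact hr.ne_one (Nat.eq_one_of_dvd_coprimes hT.cop hrm hrn)

theorem index_center : (center G).index = n * m := by
  obtain ⟨x, hx⟩ := hT.exn
  obtain ⟨y, hy⟩ := hT.exm
  rw [← hT.inter hx hy, index_inf_of_coprime (show (cs x).Coprime (cs y) by
    rw [hx, hy]; exact hT.cop.symm)]
  exact congrArg₂ (· * ·) hx hy

theorem relIndex_center_cent {g : G} {k l : ℕ} (hg : cs g = k) (hkl : n * m = k * l) (hk : 0 < k) :
    (center G).relIndex (centralizer ({g} : Set G)) = l := by
  have h := relIndex_mul_index (center_le_centralizer (G := G) ({g} : Set G))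
  rw [hT.index_center, hkl, show (centralizer ({g} : Set G)).index = k from hg, mul_comm] at h
  exact Nat.eq_of_mul_eq_mul_left hk h

end Top

end Cfsg.Lib.ClassSize
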