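import Mathlib
import Cfsg.Agent.ClassSize.TwoLargest
import Cfsg.Agent.ClassSize.Norms

/-!
# The centraliser of an element of largest class size is abelian
-/

set_option autoImplicit false
set_option linter.unusedSectionVars false
set_option linter.style.haveILetI false

namespace Cfsg.Lib.ClassSize

open Subgroup

universe u

variable {G : Type u} [Group G] [Finite G]

theorem Top.normalClosure_props {n : ℕ} {x : G} (hx : Top.Reduced x n) :
    IsMulCommutative (normalClosure ({x} : Set G)) ∧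
      (Nat.card (normalClosure ({x} : Set G))).Coprime n := by
  obtain ⟨-, hxo, hxc⟩ := hx
  have hset : ∀ a ∈ Group.conjugatesOfSet ({x} : Set G), ∃ g : G, g * x * g⁻¹ = a := by
    intro a ha
    obtain ⟨b, hb, hba⟩ := Group.mem_conjugatesOfSet_iff.mp ha
    rw [Set.mem_singleton_iff] at hb
    subst hb
    exact isConj_iff.mp hba
  have hcc : ∀ a ∈ Group.conjugatesOfSet ({x} : Set G),
      ∀ b ∈ Group.conjugatesOfSet ({x} : Set G), a * b = b * a := by
    intro a ha b hb
    obtain ⟨g, rfl⟩ := hset a ha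
    obtain ⟨h, rfl⟩ := hset b hb
    have := (hxc (g⁻¹ * h)).map (MulAut.conj g).toMonoidHom
    simp only [MulEquiv.coe_toMonoidHom, MulAut.conj_apply] at this
    rw [show g * (g⁻¹ * h * x * (g⁻¹ * h)⁻¹) * g⁻¹ = h * x * h⁻¹ by group] at this
    exact this.eq
  haveI hL : IsMulCommutative (normalClosure ({x} : Set G)) := isMulCommutative_closure hcc
  refine ⟨hL, ?_⟩
  rw [Nat.coprime_iff_gcd_eq_one]
  by_contra hne
  obtain ⟨r, hr, hrd⟩ := Nat.exists_prime_and_dvd hne
  haveI := Fact.mk hr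
  obtain ⟨l, hl⟩ := exists_prime_orderOf_dvd_card' r (hrd.trans (Nat.gcd_dvd_left _ _))
  have hpow : ∀ t : normalClosure ({x} : Set G), t ^ orderOf x = 1 := by
    intro t
    apply Subtype.ext
    rw [SubmonoidClass.coe_pow, OneMemClass.coe_one]
    refine closure_induction (p := fun t _ => t ^ orderOf x = 1) ?_ (one_pow _) ?_ ?_ t.2
    · intro a ha
      obtain ⟨g, rfl⟩ := hset a ha
      rw [← MulAut.conj_apply, ← map_pow, pow_orderOf_eq_one, map_one]
    · intro a b ha hb iha ihb
      have hab : Commute a b := congrArg Subtype.val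
        ((IsMulCommutative.is_comm (M := normalClosure ({x} : Set G))).comm ⟨a, ha⟩ ⟨b, hb⟩)
      rw [hab.mul_pow, iha, ihb, one_mul]
    · intro a _ iha
      rw [inv_pow, iha, inv_one]
  exact hr.ne_one (Nat.eq_one_of_dvd_coprimes hxo (hl ▸ orderOf_dvd_of_pow_eq_one (hpow l))
    (hrd.trans (Nat.gcd_dvd_right _ _)))

/-- Lower bound for the class size of `a w`. -/
theorem index_ge_of_parts {L B S : Subgroup G} [L.Normal] {C : Subgroup G}
    (Lw : Subgroup G) (hsplit : ∀ l ∈ L, ∀ b ∈ B, l * b ∈ C → l ∈ Lw ∧ b ∈ S) :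
    Lw.relIndex L * S.relIndex B ≤ C.index := by
  classical
  let f : (L ⧸ Lw.subgroupOf L) × (B ⧸ S.subgroupOf B) → G ⧸ C :=
    fun p => (((p.2.out : B) : G) * ((p.1.out : L) : G) : G)
  rw [relIndex, relIndex, Subgroup.index, Subgroup.index, Subgroup.index, ← Nat.card_prod]
  refine Nat.card_le_card_of_injective f ?_
  rintro ⟨p1, p2⟩ ⟨p1', p2'⟩ h
  have h' := QuotientGroup.eq.mp h
  have key : ∀ (l l' b b' : G), l ∈ L → l' ∈ L → b ∈ B → b' ∈ B → (b * l)⁻¹ * (b' * l') ∈ C →
      l⁻¹ * ((b⁻¹ * b') * l' * (b⁻¹ * b')⁻¹) ∈ Lw ∧ b⁻¹ * b' ∈ S := by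
    intro l l' b b' hl hl' hb hb' hC
    refine hsplit _ (L.mul_mem (L.inv_mem hl) (Subgroup.Normal.conj_mem ‹L.Normal› _ hl' _)) _
      (B.mul_mem (B.inv_mem hb) hb') ?_
    have e : l⁻¹ * ((b⁻¹ * b') * l' * (b⁻¹ * b')⁻¹) * (b⁻¹ * b') = (b * l)⁻¹ * (b' * l') := by
      group
    rw [e]; exact hC
  obtain ⟨-, h2⟩ := key _ _ _ _ (p1.out : L).2 (p1'.out : L).2 (p2.out : B).2 (p2'.out : B).2 h'
  have hp2 : p2 = p2' := by
    rw [← Quotient.out_eq' p2, ← Quotient.out_eq' p2']
    exact Quotient.sound' (QuotientGroup.leftRel_apply.mpr (by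
      rw [mem_subgroupOf, coe_mul, coe_inv]; exact h2))
  subst hp2
  obtain ⟨h1, -⟩ := key _ _ _ _ (p1.out : L).2 (p1'.out : L).2 (p2.out : B).2 (p2.out : B).2 h'
  rw [inv_mul_cancel, one_mul, inv_one, mul_one] at h1
  have hp1 : p1 = p1' := by
    rw [← Quotient.out_eq' p1, ← Quotient.out_eq' p1']
    exact Quotient.sound' (QuotientGroup.leftRel_apply.mpr (by
      rw [mem_subgroupOf, coe_mul, coe_inv]; exact h1))
  rw [hp1]

namespace Top

variable {m n : ℕ} (hT : Top G m n)
include hT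

/-- An element of the centraliser of an element of class size `m` not central there. -/
theorem cent_eq_of_part {y : G} {q : ℕ} (hy : YElt y m q) {w : G} {r : ℕ} (hr : r.Prime)
    (hwo : ∃ k, orderOf w = r ^ k) (hle : centralizer ({y} : Set G) ≤ centralizer ({w} : Set G))
    (hwc : w ∉ center G) : cs w = m ∧ centralizer ({y} : Set G) = centralizer ({w} : Set G) := by
  have hd : cs w ∣ m := hy.1 ▸ index_dvd_of_le hle
  rcases hT.of_coprime_n hr hwo (hT.cop.coprime_dvd_left hd) with h | h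
  · exact absurd (cs_eq_one_iff.mp h) hwc
  · refine ⟨h, eq_of_le_of_card_ge hle (le_of_eq ?_)⟩
    have h1 := (centralizer ({y} : Set G)).card_mul_index
    rw [← (centralizer ({w} : Set G)).card_mul_index,
      show (centralizer ({y} : Set G)).index = (centralizer ({w} : Set G)).index from
        hy.1.trans h.symm] at h1
    exact (Nat.eq_of_mul_eq_mul_right (Nat.pos_of_ne_zero index_ne_zero_of_finite) h1).symm

/-- The centraliser of an element of class size `m` is abelian. -/
theorem cent_comm {y : G} (hy : cs y = m) :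
    ∀ a ∈ centralizer ({y} : Set G), ∀ b ∈ centralizer ({y} : Set G), Commute a b := by
  classical
  obtain ⟨y₀, q, hy₀, hyC⟩ := hT.exists_yElt hy
  rw [← hyC]
  clear hyC hy y
  rename' y₀ => y, hy₀ => hy
  set B := centralizer ({y} : Set G) with hB
  suffices hparts : ∀ v ∈ B, ∀ r : ℕ, r.Prime → (∃ k, orderOf v = r ^ k) →
      B ≤ centralizer ({v} : Set G) by
    intro a ha b hb
    have h1 : B ≤ centralizer ({a} : Set G) := by
      intro c hc
      refine mem_cent_comm.mp (mem_of_parts fun r hr v hv hvo => ?_)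
      exact mem_cent_comm.mp (hparts v (zpowers_le.mpr ha hv) r hr hvo hc)
    exact (mem_cent.mp (h1 hb)).symm
  by_contra hcon
  push Not at hcon
  obtain ⟨v₀, hv₀, r₀, hr₀, hv₀o, hv₀n⟩ := hcon
  obtain ⟨hym, hq, ky, hky⟩ := hy
  have hy : YElt y m q := ⟨hym, hq, ky, hky⟩
  haveI := Fact.mk hq
  have hqn := hT.q_dvd_n hy
  -- all parts of other primes are central in `G`
  have hother : ∀ w ∈ B, ∀ r : ℕ, r.Prime → r ≠ q → (∃ k, orderOf w = r ^ k) → w ∈ center G := by
    intro w hw r hr hrq hwo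
    by_contra hwc
    obtain ⟨hwm, hwC⟩ := hT.cent_eq_of_part hy hr hwo (hT.central_in_cent hy hw hr hwo hrq) hwc
    apply hv₀n
    by_cases hr0 : r₀ = q
    · rw [hB, hwC] at hv₀ ⊢
      exact hT.central_in_cent ⟨hwm, hr, hwo⟩ hv₀ hr₀ hv₀o (hr0 ▸ hrq.symm)
    · exact hT.central_in_cent hy hv₀ hr₀ hv₀o hr0
  have hr₀q : r₀ = q := by
    by_contra h
    exact hv₀n (hT.central_in_cent hy hv₀ hr₀ hv₀o h)
  subst hr₀q
  -- a `q`-element of least order not central in `B`
  obtain ⟨u, ⟨huB, ⟨ku, hku⟩, hun⟩, humin⟩ : ∃ u, (u ∈ B ∧ (∃ k, orderOf u = r₀ ^ k) ∧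
      ¬ B ≤ centralizer ({u} : Set G)) ∧ ∀ w, (w ∈ B ∧ (∃ k, orderOf w = r₀ ^ k) ∧
      ¬ B ≤ centralizer ({w} : Set G)) → orderOf u ≤ orderOf w := by
    haveI := Fintype.ofFinite G
    obtain ⟨u, hu, hmin⟩ := Finset.exists_min_image (Finset.univ.filter fun w : G => w ∈ B ∧
      (∃ k, orderOf w = r₀ ^ k) ∧ ¬ B ≤ centralizer ({w} : Set G)) (fun w => orderOf w)
      ⟨v₀, Finset.mem_filter.mpr ⟨Finset.mem_univ _, hv₀, hv₀o, hv₀n⟩⟩
    exact ⟨u, (Finset.mem_filter.mp hu).2, fun w hw =>
      hmin w (Finset.mem_filter.mpr ⟨Finset.mem_univ _, hw⟩)⟩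
  set q := r₀ with hqdef
  have hku0 : ku ≠ 0 := fun h => hun (by
    rw [h, pow_zero, orderOf_eq_one_iff] at hku
    intro c _; rw [hku]; exact mem_cent.mpr (Commute.one_right c))
  have huc : u ∉ center G := fun h => hun fun c _ =>
    mem_cent.mpr (Subgroup.mem_center_iff.mp h c)
  -- `u ^ q` is central
  have huq : u ^ q ∈ center G := by
    have huqo : orderOf (u ^ q) = q ^ (ku - 1) := by
      obtain ⟨k', rfl⟩ := Nat.exists_eq_succ_of_ne_zero hku0
      rw [orderOf_pow' u hq.ne_zero, hku,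
        Nat.gcd_eq_right (dvd_pow_self q (Nat.succ_ne_zero k')), pow_succ,
        Nat.mul_div_cancel _ hq.pos, Nat.succ_sub_one]
    have hcen : B ≤ centralizer ({u ^ q} : Set G) := by
      by_contra h
      have h1 := humin _ ⟨B.pow_mem huB q, ⟨_, huqo⟩, h⟩
      rw [hku, huqo] at h1
      have := Nat.pow_lt_pow_right hq.one_lt (show ku - 1 < ku by omega)
      omega
    by_contra h
    obtain ⟨-, hCeq⟩ := hT.cent_eq_of_part hy hq ⟨_, huqo⟩ hcen h
    have hle : centralizer ({u} : Set G) ≤ B := by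
      rw [hB, hCeq]
      exact cent_le_of_mem_zpowers (pow_mem (mem_zpowers u) q)
    have h2 : B.index < cs u := by
      have h1 := (centralizer ({u} : Set G)).card_mul_index
      have h3 := B.card_mul_index
      have h4 : Nat.card (centralizer ({u} : Set G)) < Nat.card B := by
        refine lt_of_le_of_ne (Nat.le_of_dvd Nat.card_pos (card_dvd_of_le hle)) fun e => hun ?_
        rw [← eq_of_le_of_card_ge hle e.ge]
      by_contra h5
      push Not at h5
      have h6 := Nat.mul_lt_mul_of_lt_of_le h4 h5 (Nat.pos_of_ne_zero index_ne_zero_of_finite)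
      rw [h3] at h6
      exact absurd h1 (ne_of_lt h6)
    have := hT.le u
    rw [show B.index = m from hym] at h2
    omega
  -- `z`
  obtain ⟨z, hz, hzq, hzy⟩ : ∃ z, z ∉ center G ∧ z ^ q ∈ center G ∧ z ∈ zpowers y := by
    have hyc : y ∉ center G := fun h => by
      have := cs_eq_one_iff.mpr h
      have := hT.m_one_lt
      omega
    have hex : ∃ d, y ^ q ^ d ∈ center G := ⟨ky, by rw [← hky, pow_orderOf_eq_one]; exact one_mem _⟩
    have hd0 : Nat.find hex ≠ 0 := fun h => hyc (by
      have := Nat.find_spec hex; rwa [h, pow_zero, pow_one] at this)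
    refine ⟨y ^ q ^ (Nat.find hex - 1), Nat.find_min hex (by omega), ?_,
      pow_mem (mem_zpowers y) _⟩
    rw [← pow_mul, ← pow_succ, show Nat.find hex - 1 + 1 = Nat.find hex by omega]
    exact Nat.find_spec hex
  have hzo : ∃ k, orderOf z = q ^ k := by
    obtain ⟨j, -, hj⟩ := (Nat.dvd_prime_pow hq).mp (hky ▸ orderOf_dvd_of_mem_zpowers hzy)
    exact ⟨j, hj⟩
  have hBz : B ≤ centralizer ({z} : Set G) := cent_le_of_mem_zpowers hzy
  obtain ⟨-, hzC⟩ := hT.cent_eq_of_part hy hq hzo hBz hz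
  have hzB : z ∈ B := zpowers_le.mpr (mem_cent.mpr (Commute.refl y)) hzy
  have huz : Commute u z := mem_cent.mp (hBz huB)
  -- the module
  obtain ⟨x', hx'⟩ := hT.exn
  obtain ⟨x, hxr, -⟩ := hT.exists_reduced hx'
  obtain ⟨hxn, hxo, -⟩ := id hxr
  obtain ⟨hLc, hLn⟩ := Top.normalClosure_props hxr
  set L := normalClosure ({x} : Set G) with hL
  have hxL : x ∈ L := subset_normalClosure rfl
  have hLcomm : ∀ a ∈ L, ∀ b ∈ L, Commute a b := fun a ha b hb =>
    congrArg Subtype.val (hLc.is_comm.comm ⟨a, ha⟩ ⟨b, hb⟩)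
  have hLord : ∀ a ∈ L, (orderOf a).Coprime n := fun a ha =>
    hLn.coprime_dvd_left (L.orderOf_dvd_natCard ha)
  have hLq : ∀ a ∈ L, (orderOf a).Coprime q := fun a ha => (hLord a ha).coprime_dvd_right hqn
  have hLY : ∀ w r, YElt w m r → ∀ a ∈ L, a ∈ centralizer ({w} : Set G) → a ∈ center G := by
    intro w r hw a ha hac
    refine mem_of_parts fun r' hr' v hv hvo => ?_
    by_cases hr'n : r' ∣ n
    · obtain ⟨k, hk⟩ := hvo
      have h1 := (hLord v (zpowers_le.mpr ha hv))
      rw [hk] at h1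
      rcases k with _ | k
      · rw [pow_zero, orderOf_eq_one_iff] at hk; rw [hk]; exact one_mem _
      · exact absurd (Nat.eq_one_of_dvd_coprimes h1 (dvd_pow_self r' k.succ_ne_zero) hr'n) hr'.ne_one
    · exact hT.central_of_not_dvd hw (zpowers_le.mpr hac hv) hr' hvo hr'n
  letI : CommGroup L := { (inferInstance : Group L) with mul_comm := fun a b => hLc.is_comm.comm a b }
  set φ : MulAut L := MulAut.conjNormal (H := L) u with hφdef
  set ψ : MulAut L := MulAut.conjNormal (H := L) z with hψdef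
  have hcentral : ∀ t : G, t ∈ center G → MulAut.conjNormal (H := L) t = 1 := fun t ht => by
    ext l
    rw [MulAut.conjNormal_apply, ← Subgroup.mem_center_iff.mp ht, mul_inv_cancel_right]
    rfl
  have hφ : φ ^ q = 1 := by rw [hφdef, ← map_pow]; exact hcentral _ huq
  have hψ : ψ ^ q = 1 := by rw [hψdef, ← map_pow]; exact hcentral _ hzq
  have hc : Commute φ ψ := huz.map (MulAut.conjNormal (H := L))
  have hfix : ∀ (t : G) (l : L), MulAut.conjNormal (H := L) t l = l ↔ Commute t (l : G) := by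
    intro t l
    rw [Subtype.ext_iff, MulAut.conjNormal_apply, mul_inv_eq_iff_eq_mul]
    rfl
  set Z₀ := (center G).subgroupOf L with hZ₀
  have hψZ : ∀ v, ψ v = v → v ∈ Z₀ := by
    intro v hv
    refine mem_subgroupOf.mpr (hLY y q hy v v.2 ?_)
    show (v : G) ∈ B
    rw [hB, hzC]
    exact mem_cent.mpr ((hfix z v).mp hv).symm
  let W : ℕ → G := fun i => u * z ^ i
  have hWmap : ∀ i, MulAut.conjNormal (H := L) (W i) = φ * ψ ^ i := fun i => by
    rw [hφdef, hψdef, ← map_pow, ← map_mul]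
  have hWB : ∀ i, W i ∈ B := fun i => B.mul_mem huB (B.pow_mem hzB i)
  have hWo : ∀ i, ∃ k, orderOf (W i) = q ^ k := by
    intro i
    obtain ⟨kz, hkz⟩ := hzo
    have h1 : orderOf (W i) ∣ q ^ (max ku kz) := by
      refine ((huz.pow_right i).orderOf_mul_dvd_lcm).trans (Nat.lcm_dvd ?_ ?_)
      · rw [hku]; exact pow_dvd_pow q (le_max_left _ _)
      · exact (orderOf_pow_dvd i).trans (hkz ▸ pow_dvd_pow q (le_max_right _ _))
    obtain ⟨j, -, hj⟩ := (Nat.dvd_prime_pow hq).mp h1
    exact ⟨j, hj⟩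
  have hWnot : ∀ i, ¬ B ≤ centralizer ({W i} : Set G) := fun i h => hun fun c hc' => by
    have h1 := mem_cent.mp (h hc')
    have h2 := (mem_cent.mp (hBz hc')).pow_right i
    have := h1.mul_right h2.inv_right
    simp only [W, mul_inv_cancel_right] at this
    exact mem_cent.mpr this
  have hWq : ∀ i, W i ^ q ∈ center G := fun i => by
    show (u * z ^ i) ^ q ∈ _
    rw [(huz.pow_right i).mul_pow, ← pow_mul, mul_comm i, pow_mul]
    exact mul_mem huq (pow_mem hzq i)
  let K : Fin q → Subgroup L := fun i => (centralizer ({W i} : Set G)).subgroupOf L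
  have hK : ∀ (i : Fin q) v, v ∈ K i ↔ (φ * ψ ^ (i : ℕ)) v = v := by
    intro i v
    rw [← hWmap, hfix]
    exact ⟨fun h => (mem_cent.mp h).symm, fun h => mem_cent.mpr h.symm⟩
  have hR := pow_le_prod_index hq hc hφ hψ (hLn.coprime_dvd_right hqn) hψZ K hK
  set R := Z₀.index with hRdef
  have hKR : ∀ i, (K i).index ≤ R := fun i =>
    Nat.le_of_dvd (Nat.pos_of_ne_zero index_ne_zero_of_finite) (index_dvd_of_le fun v hv =>
      mem_cent.mpr ((Subgroup.mem_center_iff.mp hv (W i)).symm))
  set T := B ⊓ centralizer ({u} : Set G) with hTdef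
  have hZT : center G ≤ T := le_inf (center_le_centralizer _) (center_le_centralizer _)
  have hnZ : (center G).relIndex B = n := hT.relIndex_center_cent hym (mul_comm n m)
    (lt_trans zero_lt_one hT.m_one_lt)
  set n' := (center G).relIndex T with hn'
  set c := T.relIndex B with hcdef
  have hnc : n' * c = n := by rw [← hnZ, hn', hcdef, relIndex_mul_relIndex _ _ _ hZT inf_le_left]
  have hc1 : 1 < c := by
    have h0 : c ≠ 0 := fun h => by rw [h, mul_zero] at hnc; have := hT.one_lt; omega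
    have h1 : c ≠ 1 := fun h => hun fun t ht => (relIndex_eq_one.mp h ht).2
    omega
  have hn'0 : 0 < n' := Nat.pos_of_ne_zero fun h => by
    rw [h, zero_mul] at hnc; have := hT.one_lt; omega
  -- `R` is at least `n`
  have hRn : n ≤ R := by
    rw [← hnZ, relIndex, hRdef, Subgroup.index, Subgroup.index]
    let f : B ⧸ (center G).subgroupOf B → L ⧸ Z₀ := fun p =>
      QuotientGroup.mk (MulAut.conjNormal (H := L) ((p.out : B) : G) ⟨x, hxL⟩)
    refine Nat.card_le_card_of_injective f fun p p' h => ?_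
    rw [← Quotient.out_eq' p, ← Quotient.out_eq' p']
    refine Quotient.sound' (QuotientGroup.leftRel_apply.mpr ?_)
    rw [mem_subgroupOf, coe_mul, coe_inv]
    have h' := mem_subgroupOf.mp (QuotientGroup.eq.mp h)
    rw [coe_mul, coe_inv, MulAut.conjNormal_apply, MulAut.conjNormal_apply] at h'
    set b : G := ((p.out : B) : G) with hbdef
    set b' : G := ((p'.out : B) : G) with hb'def
    change (b * x * b⁻¹)⁻¹ * (b' * x * b'⁻¹) ∈ center G at h'
    set e := b⁻¹ * b' with hedef
    have he : e ∈ B := B.mul_mem (B.inv_mem (p.out : B).2) (p'.out : B).2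
    set ζ := x⁻¹ * (e * x * e⁻¹) with hζdef
    have hζ : ζ ∈ center G := by
      have h'' := (inferInstance : (center G).Normal).conj_mem _ h' b⁻¹
      have e1 : b⁻¹ * ((b * x * b⁻¹)⁻¹ * (b' * x * b'⁻¹)) * b⁻¹⁻¹ = ζ := by
        rw [hζdef, hedef]; group
      rwa [e1] at h''
    have hconj : e * x * e⁻¹ = x * ζ := by rw [hζdef, mul_inv_cancel_left]
    have hxζ : Commute x ζ := Subgroup.mem_center_iff.mp hζ x
    have h2 : ∀ k : ℕ, e ^ k * x * (e ^ k)⁻¹ = x * ζ ^ k := by
      intro k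
      induction k with
      | zero => simp
      | succ k ih =>
        have hce : Commute e (ζ ^ k) := (Subgroup.mem_center_iff.mp (pow_mem hζ k) e)
        calc e ^ (k + 1) * x * (e ^ (k + 1))⁻¹ = e * (e ^ k * x * (e ^ k)⁻¹) * e⁻¹ := by
              rw [pow_succ']; group
          _ = e * x * (ζ ^ k * e⁻¹) := by rw [ih]; group
          _ = e * x * (e⁻¹ * ζ ^ k) := by rw [hce.inv_left.eq]
          _ = x * ζ ^ (k + 1) := by rw [← mul_assoc, hconj, pow_succ', mul_assoc]
    have hen : e ^ n ∈ center G := by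
      have := ((center G).subgroupOf B).pow_index_mem ⟨e, he⟩
      rw [← relIndex, hnZ] at this
      exact mem_subgroupOf.mp this
    have hz1 : ζ ^ n = 1 := by
      have h3 := h2 n
      rw [← (Subgroup.mem_center_iff.mp hen x), mul_inv_cancel_right] at h3
      exact left_eq_mul.mp h3
    have hz2 : ζ ^ orderOf x = 1 := by
      have h3 : (e * x * e⁻¹) ^ orderOf x = 1 := by
        rw [← MulAut.conj_apply, ← map_pow, pow_orderOf_eq_one, map_one]
      rwa [hconj, hxζ.mul_pow, pow_orderOf_eq_one, one_mul] at h3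
    have hζ1 : ζ = 1 := by
      have h4 := pow_gcd_eq_one.mpr ⟨hz1, hz2⟩
      rwa [Nat.Coprime.gcd_eq_one hxo.symm, pow_one] at h4
    rw [hζ1, mul_one, mul_inv_eq_iff_eq_mul] at hconj
    have h5 : e ∈ centralizer ({x} : Set G) ⊓ centralizer ({y} : Set G) :=
      ⟨mem_cent.mpr hconj, he⟩
    rw [hT.inter hxn hym] at h5
    exact h5
  -- the components of `x ^ q`
  let a : Fin q → L := fun i => norm' q (φ * ψ ^ (i : ℕ)) ⟨x, hxL⟩
  have hWfix : ∀ i : Fin q, (φ * ψ ^ (i : ℕ)) ^ q = 1 := fun i => by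
    rw [(hc.pow_right _).mul_pow, hφ, one_mul, ← pow_mul, mul_comm, pow_mul, hψ, one_pow]
  have haK : ∀ i, a i ∈ K i := fun i => (hK i _).mpr (apply_norm' _ (hWfix i) _)
  -- `x ^ q` is the product of the components modulo the centre
  have hxprod : ∃ ζ : G, ζ ∈ center G ∧ x ^ q = (((∏ i, a i : L)) : G) * ζ := by
    refine ⟨_, ?_, (mul_inv_cancel_left ((∏ i, a i : L) : G) (x ^ q)).symm⟩
    have h1 := prod_norm' hq hc hψ (⟨x, hxL⟩ : L)
    rw [← Fin.prod_univ_eq_prod_range (fun i => norm' q (φ * ψ ^ i) (⟨x, hxL⟩ : L))] at h1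
    have h3 : (∏ i, a i)⁻¹ * (⟨x, hxL⟩ : L) ^ q ∈ Z₀ := by
      rw [show (∏ i, a i) = _ from h1, mul_inv_rev, inv_mul_cancel_right]
      refine Z₀.inv_mem (Z₀.prod_mem fun j _ => ?_)
      have hN := hψZ _ (apply_norm' ψ hψ (⟨x, hxL⟩ : L))
      have hN' : (φ ^ j) (norm' q ψ ⟨x, hxL⟩) = norm' q ψ ⟨x, hxL⟩ := by
        rw [hφdef, ← map_pow, hfix]
        exact Subgroup.mem_center_iff.mp (mem_subgroupOf.mp hN) _
      rwa [hN']
    exact mem_subgroupOf.mp h3
  obtain ⟨ζ, hζ, hxq⟩ := hxprod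
  have hxmem : x ∈ zpowers (x ^ q) := by
    obtain ⟨l, hl⟩ := exists_pow_eq_self_of_coprime (hLq x hxL).symm
    exact mem_zpowers_iff.mpr ⟨l, by rw [zpow_natCast]; exact hl⟩
  let S : Finset (Fin q) := Finset.univ.filter fun i => (a i : G) ∉ center G
  have hprodmem : ∀ d : G, (∀ i ∈ S, Commute d (a i : G)) → d ∈ centralizer ({x} : Set G) := by
    intro d hd
    refine cent_le_of_mem_zpowers hxmem (mem_cent.mpr ?_)
    rw [hxq]
    refine Commute.mul_right ?_ (Subgroup.mem_center_iff.mp hζ d)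
    have hmem : (∏ i, a i) ∈ (centralizer ({d} : Set G)).subgroupOf L := by
      refine Subgroup.prod_mem _ fun i _ => mem_subgroupOf.mpr (mem_cent.mpr ?_)
      by_cases hi : i ∈ S
      · exact (hd i hi).symm
      · have : (a i : G) ∈ center G := by simpa [S] using hi
        exact (Subgroup.mem_center_iff.mp this d).symm
    exact (mem_cent.mp (mem_subgroupOf.mp hmem)).symm
  have hS2 : 2 ≤ S.card := by
    by_contra h
    push Not at h
    rcases Nat.lt_succ_iff.mp h |>.lt_or_eq with h0 | h1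
    · have hS0 : S = ∅ := Finset.card_eq_zero.mp (by omega)
      have : x ∈ center G := Subgroup.mem_center_iff.mpr fun d =>
        (mem_cent.mp (hprodmem d (by simp [hS0]))).eq
      have := cs_eq_one_iff.mpr this
      have := hT.one_lt
      omega
    · obtain ⟨j, hj⟩ := Finset.card_eq_one.mp h1
      have hw : W j ∈ centralizer ({x} : Set G) := hprodmem _ fun i hi => by
        rw [hj, Finset.mem_singleton] at hi
        subst hi
        exact (mem_cent.mp (mem_subgroupOf.mp (haK i))).symm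
      have : W j ∈ center G := by
        rw [← hT.inter hxn hym]; exact ⟨hw, hWB _⟩
      exact hWnot j fun c _ => mem_cent.mpr (Subgroup.mem_center_iff.mp this c)
  -- orbit bound
  have hbound : ∀ i ∈ S,
      (K i).index * (T ⊓ centralizer ({(a i : G)} : Set G)).relIndex T ≤ n' := by
    intro i hi
    have hai : (a i : G) ∉ center G := by simpa [S] using hi
    set w := W i with hw
    obtain ⟨kw, hkw⟩ := hWo i
    have hac : Commute (a i : G) w := mem_cent.mp (mem_subgroupOf.mp (haK i))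
    have hcop : (orderOf (a i : G)).Coprime (orderOf w) := by
      rw [hw, hkw]; exact (hLq _ (a i).2).pow_right kw
    have hC := cent_mul_of_coprime hac hcop
    have hne : cs ((a i : G) * w) ≠ m := by
      intro h
      have hd : cs w ∣ m := h ▸ index_dvd_of_le (hC ▸ inf_le_right)
      rcases hT.of_coprime_n hq (hWo i) (hT.cop.coprime_dvd_left hd) with h1 | h1
      · exact hWnot i fun c _ => mem_cent.mpr (Subgroup.mem_center_iff.mp (cs_eq_one_iff.mp h1) c)
      · exact hai (hLY w q ⟨h1, hq, hWo i⟩ _ (a i).2 (mem_cent.mpr hac))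
    have hle : cs ((a i : G) * w) ≤ n := hT.le' _ (lt_of_le_of_ne (hT.le _) hne)
    have hge : (centralizer ({w} : Set G) ⊓ L).relIndex L *
        (T ⊓ centralizer ({(a i : G)} : Set G)).relIndex B ≤ cs ((a i : G) * w) := by
      refine index_ge_of_parts _ fun l hl b hb hlb => ?_
      rw [hC] at hlb
      obtain ⟨hla, hlw⟩ := hlb
      -- `b` commutes with `w`
      set ζ' := w⁻¹ * (b * w * b⁻¹) with hζ'
      have hζ'B : ζ' ∈ B := B.mul_mem (B.inv_mem (hWB i))
        (B.mul_mem (B.mul_mem hb (hWB i)) (B.inv_mem hb))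
      have hζ'L : ζ' ∈ L := by
        have e : ζ' = w⁻¹ * l⁻¹ * w * l := by
          have hlw' : l * b * w = w * (l * b) := (mem_cent.mp hlw).eq
          have h1 : b * w * b⁻¹ = l⁻¹ * w * l := by
            calc b * w * b⁻¹ = l⁻¹ * (l * b * w) * b⁻¹ := by group
              _ = l⁻¹ * (w * (l * b)) * b⁻¹ := by rw [hlw']
              _ = l⁻¹ * w * l := by group
          rw [hζ', h1]; group
        rw [e]
        refine L.mul_mem ?_ hl
        have := Subgroup.Normal.conj_mem (inferInstance : L.Normal) _ (L.inv_mem hl) w⁻¹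
        rwa [inv_inv] at this
      have hζ'Z : ζ' ∈ center G := hLY y q hy _ hζ'L hζ'B
      have hζ'q : ζ' ^ q = 1 := by
        have h1 : (b * w * b⁻¹) ^ q = w ^ q := by
          rw [conj_pow, Subgroup.mem_center_iff.mp (hWq i) b, mul_inv_cancel_right]
        have h2 : b * w * b⁻¹ = w * ζ' := by rw [hζ', mul_inv_cancel_left]
        rw [h2, (show Commute w ζ' from Subgroup.mem_center_iff.mp hζ'Z w).mul_pow,
          mul_eq_left] at h1
        exact h1
      have hζ'1 : ζ' = 1 := by
        have h4 : orderOf ζ' = 1 := Nat.eq_one_of_dvd_coprimes (hLq _ hζ'L) dvd_rfl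
          (orderOf_dvd_of_pow_eq_one hζ'q)
        exact orderOf_eq_one_iff.mp h4
      have hbw : Commute b w := by
        rw [hζ', inv_mul_eq_one] at hζ'1
        exact (mul_inv_eq_iff_eq_mul.mp hζ'1.symm)
      have hlw2 : Commute l w := by
        have := (mem_cent.mp hlw).mul_left hbw.inv_left
        rwa [mul_inv_cancel_right] at this
      have hbu : Commute b u := by
        have h6 := hbw.mul_right (((mem_cent.mp (hBz hb)).pow_right (i : ℕ)).inv_right)
        simpa [w, W] using h6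
      have hba : Commute b (a i : G) := by
        have := (hLcomm l hl _ (a i).2).inv_left.mul_left (mem_cent.mp hla)
        rwa [inv_mul_cancel_left] at this
      exact ⟨⟨mem_cent.mpr hlw2, hl⟩, ⟨hb, mem_cent.mpr hbu⟩, mem_cent.mpr hba⟩
    rw [inf_relIndex_right, ← relIndex_mul_relIndex _ _ _ inf_le_left (inf_le_left : T ≤ B),
      ← hcdef] at hge
    have h1 := hge.trans hle
    rw [← hnc, ← mul_assoc] at h1
    exact Nat.le_of_mul_le_mul_right h1 (by omega)
  -- conclude
  have hT' : n' ≤ ∏ i ∈ S, (T ⊓ centralizer ({(a i : G)} : Set G)).relIndex T := by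
    rw [← Finset.prod_coe_sort S]
    refine le_trans (Nat.le_of_dvd (Nat.pos_of_ne_zero ?_) (relIndex_dvd_of_le_left T ?_))
      (relIndex_iInf_le _)
    · exact index_ne_zero_of_finite
    · intro d hd
      have hdS : ∀ i ∈ S, d ∈ T ⊓ centralizer ({(a i : G)} : Set G) := fun i hi =>
        (Subgroup.mem_iInf.mp hd) ⟨i, hi⟩
      obtain ⟨i₀, hi₀⟩ := Finset.card_pos.mp (by omega : 0 < S.card)
      have hdB : d ∈ B := (hdS i₀ hi₀).1.1
      rw [← hT.inter hxn hym]
      exact ⟨hprodmem d fun i hi => mem_cent.mp (hdS i hi).2, hdB⟩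
  have hRS : R ^ (S.card - 1) ≤ ∏ i ∈ S, (K i).index := by
    have hsplit := (Finset.prod_mul_prod_compl S fun i => (K i).index).symm
    have hcompl : ∏ i ∈ Sᶜ, (K i).index ≤ R ^ (q - S.card) := by
      refine (Finset.prod_le_pow_card _ _ _ fun i _ => hKR i).trans (le_of_eq ?_)
      rw [Finset.card_compl, Fintype.card_fin]
    have hSq : S.card ≤ q := (Finset.card_le_univ S).trans (by simp)
    have h1 : R ^ (S.card - 1) * R ^ (q - S.card) ≤ (∏ i ∈ S, (K i).index) * R ^ (q - S.card) := by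
      rw [← pow_add, show S.card - 1 + (q - S.card) = q - 1 by omega]
      refine hR.trans ?_
      rw [hsplit]
      exact Nat.mul_le_mul_left _ hcompl
    exact Nat.le_of_mul_le_mul_right h1
      (pow_pos (Nat.pos_of_ne_zero index_ne_zero_of_finite) _)
  have hfinal : R ^ (S.card - 1) * n' ≤ n' ^ (S.card - 1) * n' := by
    calc R ^ (S.card - 1) * n'
        ≤ (∏ i ∈ S, (K i).index) *
            ∏ i ∈ S, (T ⊓ centralizer ({(a i : G)} : Set G)).relIndex T := Nat.mul_le_mul hRS hT'
      _ = ∏ i ∈ S, (K i).index * (T ⊓ centralizer ({(a i : G)} : Set G)).relIndex T :=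
          Finset.prod_mul_distrib.symm
      _ ≤ n' ^ S.card := Finset.prod_le_pow_card _ _ _ hbound
      _ = n' ^ (S.card - 1) * n' := by
          rw [← pow_succ, show S.card - 1 + 1 = S.card by omega]
  have hle' : R ≤ n' :=
    (Nat.pow_le_pow_iff_left (by omega : S.card - 1 ≠ 0)).mp (Nat.le_of_mul_le_mul_right hfinal hn'0)
  have hlt : n' < n := by
    calc n' = n' * 1 := (mul_one _).symm
      _ < n' * c := Nat.mul_lt_mul_of_pos_left hc1 hn'0
      _ = n := hnc
  omega

end Top

end Cfsg.Lib.ClassSize
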