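import Mathlib

/-!
# Groups in which no class size is divisible by four

In a minimal counterexample, which is simple of even order, a single `2`-element `s` has a conjugate
in every subgroup of index at most `2` of a Sylow `2`-subgroup, so every element centralises a
conjugate of `s`; but a group is not the union of the conjugates of a proper subgroup.
-/

set_option autoImplicit false
set_option linter.style.haveILetI false
set_option linter.unusedSectionVars false

universe u

namespace Cfsg.Lib.ClassSize.FourIndex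

open Subgroup

variable {G : Type u} [Group G] [Finite G]

/-- A group is not the union of the conjugates of a proper subgroup. -/
theorem exists_forall_conj_notMem {H : Subgroup G} (hH : H ≠ ⊤) :
    ∃ g : G, ∀ y : G, y⁻¹ * g * y ∉ H := by
  classical
  by_contra hcon
  push Not at hcon
  haveI := Fintype.ofFinite G
  haveI : Fintype (G ⧸ H) := Fintype.ofFinite _
  haveI : Fintype (Quotient <| MulAction.orbitRel G (G ⧸ H)) := Fintype.ofFinite _
  haveI : ∀ g : G, Fintype (MulAction.fixedBy (G ⧸ H) g) := fun g => Fintype.ofFinite _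
  have hsum := MulAction.sum_card_fixedBy_eq_card_orbits_mul_card_group G (G ⧸ H)
  have h1 : Fintype.card (Quotient <| MulAction.orbitRel G (G ⧸ H)) = 1 := by
    haveI : Subsingleton (Quotient <| MulAction.orbitRel G (G ⧸ H)) :=
      (MulAction.pretransitive_iff_subsingleton_quotient G (G ⧸ H)).mp inferInstance
    haveI : Nonempty (Quotient <| MulAction.orbitRel G (G ⧸ H)) :=
      ⟨Quotient.mk _ ((1 : G) : G ⧸ H)⟩
    exact Fintype.card_eq_one_iff.mpr ⟨Classical.arbitrary _, fun _ => Subsingleton.elim _ _⟩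
  rw [h1, one_mul] at hsum
  have h2 : 1 < Fintype.card (MulAction.fixedBy (G ⧸ H) (1 : G)) := by
    have h3 : Fintype.card (MulAction.fixedBy (G ⧸ H) (1 : G)) = Fintype.card (G ⧸ H) :=
      Fintype.card_congr (Equiv.subtypeUnivEquiv fun x => by simp [MulAction.mem_fixedBy])
    rw [h3, ← Nat.card_eq_fintype_card]
    exact H.one_lt_index_of_ne_top hH
  have hlt : ∑ _g : G, 1 < ∑ g : G, Fintype.card (MulAction.fixedBy (G ⧸ H) g) := by
    refine Finset.sum_lt_sum (fun g _ => ?_) ⟨1, Finset.mem_univ _, h2⟩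
    obtain ⟨y, hy⟩ := hcon g
    refine Fintype.card_pos_iff.mpr ⟨⟨((y : G) : G ⧸ H), ?_⟩⟩
    show g • ((y : G) : G ⧸ H) = _
    rw [MulAction.Quotient.smul_coe, QuotientGroup.eq, smul_eq_mul]
    simpa [mul_assoc] using inv_mem hy
  rw [hsum, Finset.sum_const, Finset.card_univ, smul_eq_mul, mul_one] at hlt
  exact lt_irrefl _ hlt

/-- In a non-abelian simple group an element of an abelian Sylow subgroup centralised by its
normaliser is trivial. -/
theorem eq_one_of_central_normalizer [IsSimpleGroup G] (hnc : ¬ ∀ a b : G, a * b = b * a) {p : ℕ}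
    [Fact p.Prime] (P : Sylow p G) (hP : ∀ a ∈ P, ∀ b ∈ P, a * b = b * a) {w : G}
    (hw : w ∈ P) (hN : ∀ n ∈ normalizer (P : Set G), n * w = w * n) : w = 1 := by
  letI : CommGroup (P : Subgroup G) :=
    { (inferInstance : Group (P : Subgroup G)) with
      mul_comm := fun a b => Subtype.ext (hP a a.2 b b.2) }
  have key : ∀ (k : ℕ) (g₀ : G), g₀⁻¹ * w ^ k * g₀ ∈ (P : Subgroup G) →
      g₀⁻¹ * w ^ k * g₀ = w ^ k := by
    intro k g₀ h
    haveI : IsMulCommutative (P : Subgroup G) := ⟨⟨mul_comm⟩⟩
    obtain ⟨n, hn, e⟩ := P.conj_eq_normalizer_conj_of_mem (w ^ k) g₀ (pow_mem hw k) h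
    rw [e]
    have hc : n⁻¹ * w ^ k = w ^ k * n⁻¹ :=
      ((show Commute n⁻¹ w from hN n⁻¹ (inv_mem hn)).pow_right k).eq
    rw [hc, inv_mul_cancel_right]
  set φ := MonoidHom.transfer (MonoidHom.id (P : Subgroup G))
  have hker : φ.ker = ⊤ := by
    rcases (MonoidHom.normal_ker φ).eq_bot_or_eq_top with e | e
    · exact absurd (fun a b => φ.ker_eq_bot_iff.mp e (by rw [map_mul, map_mul, mul_comm])) hnc
    · exact e
  have h1 : φ w = 1 := MonoidHom.mem_ker.mp (hker ▸ mem_top w)
  rw [MonoidHom.transfer_eq_pow _ _ key] at h1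
  have h2 : w ^ (P : Subgroup G).index = 1 := congrArg Subtype.val h1
  obtain ⟨k, hk⟩ := P.2 ⟨w, hw⟩
  have h3 : w ^ p ^ k = 1 := congrArg Subtype.val hk
  have h4 : orderOf w ∣ Nat.gcd (P : Subgroup G).index (p ^ k) :=
    Nat.dvd_gcd (orderOf_dvd_of_pow_eq_one h2) (orderOf_dvd_of_pow_eq_one h3)
  rw [show Nat.gcd (P : Subgroup G).index (p ^ k) = 1 from
    Nat.Coprime.pow_right k (((Fact.out : p.Prime).coprime_iff_not_dvd.mpr P.not_dvd_index).symm),
    Nat.dvd_one] at h4
  exact orderOf_eq_one_iff.mp h4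

/-- The hypothesis passes to normal subgroups. -/
theorem relIndex_dvd_index (N C : Subgroup G) [N.Normal] : C.relIndex N ∣ C.index := by
  obtain ⟨k, hk⟩ := Subgroup.relIndex_dvd_index_of_normal N C
  have e1 := Subgroup.relIndex_mul_index (inf_le_left : C ⊓ N ≤ C)
  have e2 := Subgroup.relIndex_mul_index (inf_le_right : C ⊓ N ≤ N)
  rw [inf_relIndex_left] at e1
  rw [inf_relIndex_right, hk, ← e1] at e2
  refine ⟨k, ?_⟩
  have h0 : N.relIndex C ≠ 0 := Nat.card_pos.ne'
  exact Nat.eq_of_mul_eq_mul_left (Nat.pos_of_ne_zero h0) (e2.symm.trans (by ring))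

/-- A single involution or square meets every subgroup of index at most two up to conjugacy. -/
theorem exists_universal [IsSimpleGroup G] (hnc : ¬ ∀ a b : G, a * b = b * a)
    (h2 : 2 ∣ Nat.card G) (S : Sylow 2 G) :
    ∃ s ∈ S, s ≠ 1 ∧ ∀ T : Subgroup G, T ≤ S → Nat.card S ≤ 2 * Nat.card T →
      ∃ y : G, y * s * y⁻¹ ∈ T := by
  classical
  have htwo : ∀ T : Subgroup G, T ≤ S → Nat.card S ≤ 2 * Nat.card T →
      (T = S ∨ (T.subgroupOf (S : Subgroup G)).index = 2) := by
    intro T hT hc
    have e := Subgroup.card_mul_index (T.subgroupOf (S : Subgroup G))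
    rw [Nat.card_congr (subgroupOfEquivOfLe hT).toEquiv] at e
    have h0 : (T.subgroupOf (S : Subgroup G)).index ≠ 0 := Subgroup.index_ne_zero_of_finite
    rcases Nat.lt_or_ge (T.subgroupOf (S : Subgroup G)).index 2 with h' | h'
    · left
      rw [show (T.subgroupOf (S : Subgroup G)).index = 1 by omega, mul_one] at e
      exact eq_of_le_of_card_ge hT e.ge
    · right
      have hp : 0 < Nat.card T := Nat.card_pos
      have : Nat.card T * (T.subgroupOf (S : Subgroup G)).index ≤ Nat.card T * 2 := by
        rw [e]; linarith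
      have := Nat.le_of_mul_le_mul_left this hp
      omega
  by_cases hsq : ∃ x ∈ S, x * x ≠ 1
  · obtain ⟨x, hx, hxx⟩ := hsq
    refine ⟨x * x, mul_mem hx hx, hxx, fun T hT hc => ⟨1, ?_⟩⟩
    rw [one_mul, inv_one, mul_one]
    rcases htwo T hT hc with e | e
    · rw [e]; exact mul_mem hx hx
    · exact mem_subgroupOf.mp (Subgroup.mul_self_mem_of_index_two e ⟨x, hx⟩)
  push Not at hsq
  have hcomm : ∀ a ∈ S, ∀ b ∈ S, a * b = b * a := by
    intro a ha b hb
    have h3 := hsq (a * b) (mul_mem ha hb)
    calc a * b = (a * b)⁻¹ := eq_inv_of_mul_eq_one_left h3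
      _ = b⁻¹ * a⁻¹ := mul_inv_rev a b
      _ = b * a := by
        rw [← eq_inv_of_mul_eq_one_left (hsq a ha), ← eq_inv_of_mul_eq_one_left (hsq b hb)]
  obtain ⟨s, hs, hs1⟩ : ∃ s ∈ S, s ≠ 1 :=
    ((Subgroup.bot_or_exists_ne_one (S : Subgroup G))).resolve_left fun e => by
      have := S.card_eq_multiplicity
      rw [e, Subgroup.card_bot] at this
      have h4 := (Nat.prime_two.dvd_iff_one_le_factorization (Nat.card_pos (α := G)).ne').mp h2
      exact absurd this.symm (Nat.one_lt_pow (by omega) one_lt_two).ne'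
  refine ⟨s, hs, hs1, fun T hT hc => ?_⟩
  by_contra hno
  push Not at hno
  rcases htwo T hT hc with e | e
  · exact hno 1 (by rw [e, one_mul, inv_one, mul_one]; exact hs)
  letI : CommGroup (S : Subgroup G) :=
    { (inferInstance : Group (S : Subgroup G)) with
      mul_comm := fun a b => Subtype.ext (hcomm a a.2 b b.2) }
  set N := normalizer ((S : Subgroup G) : Set G) with hNdef
  have hSN : (S : Subgroup G) ≤ N := Subgroup.le_normalizer
  let K := (S : Subgroup G).subgroupOf N
  haveI : Fintype (N ⧸ K) := Fintype.ofFinite _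
  have hcj : ∀ n : N, (n : G) * s * (n : G)⁻¹ ∈ (S : Subgroup G) := fun n =>
    (mem_normalizer_iff.mp n.2 s).mp hs
  let f : N ⧸ K → (S : Subgroup G) := Quotient.lift (fun n : N => ⟨_, hcj n⟩) (by
    intro a b hab
    have hab' : ((a : G)⁻¹ * b) ∈ (S : Subgroup G) := by
      have := QuotientGroup.leftRel_apply.mp hab
      simpa using mem_subgroupOf.mp this
    refine Subtype.ext ?_
    show (a : G) * s * (a : G)⁻¹ = (b : G) * s * (b : G)⁻¹
    calc (a : G) * s * (a : G)⁻¹
        = a * (s * ((a : G)⁻¹ * b)) * (b : G)⁻¹ := by group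
      _ = a * (((a : G)⁻¹ * b) * s) * (b : G)⁻¹ := by rw [hcomm s hs _ hab']
      _ = (b : G) * s * (b : G)⁻¹ := by group)
  set w := ∏ q, f q with hw
  have hwc : ∀ n ∈ N, n * (w : G) = (w : G) * n := by
    intro n hn
    let c : (S : Subgroup G) →* (S : Subgroup G) :=
      { toFun := fun x => ⟨n * x * n⁻¹, (mem_normalizer_iff.mp hn x).mp x.2⟩
        map_one' := Subtype.ext (by simp)
        map_mul' := fun x y => Subtype.ext (by simp [mul_assoc]) }
    have h5 : c w = w := by
      rw [hw, map_prod]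
      refine Fintype.prod_equiv (MulAction.toPerm (⟨n, hn⟩ : N)) _ _ fun q => ?_
      induction q using QuotientGroup.induction_on with
      | _ a =>
        refine Subtype.ext ?_
        show n * ((a : G) * s * (a : G)⁻¹) * n⁻¹ = (n * a) * s * (n * a)⁻¹
        group
    exact mul_inv_eq_iff_eq_mul.mp (congrArg Subtype.val h5)
  have hw1 : w = 1 := Subtype.ext (eq_one_of_central_normalizer hnc S hcomm w.2 hwc)
  set U := T.subgroupOf (S : Subgroup G)
  haveI : U.Normal := Subgroup.normal_of_index_eq_two e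
  have hout : ∀ q, f q ∉ U := by
    intro q
    induction q using QuotientGroup.induction_on with
    | _ a => exact fun hm => hno a (mem_subgroupOf.mp hm)
  have h2c : Nat.card ((S : Subgroup G) ⧸ U) = 2 := e
  obtain ⟨a, b, hab, huniv⟩ := Nat.card_eq_two_iff.mp h2c
  obtain ⟨c, hc1, hcu⟩ : ∃ c, c ≠ 1 ∧ ∀ z : (S : Subgroup G) ⧸ U, z ≠ 1 → z = c := by
    have hmem : ∀ z, z = a ∨ z = b := fun z => by
      have := Set.eq_univ_iff_forall.mp huniv z
      simpa using this
    rcases hmem 1 with h1 | h1
    · exact ⟨b, fun hb => hab (h1.symm.trans hb.symm), fun z hz =>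
        (hmem z).resolve_left fun hz' => hz (hz'.trans h1.symm)⟩
    · exact ⟨a, fun ha => hab (ha.trans h1), fun z hz =>
        (hmem z).resolve_right fun hz' => hz (hz'.trans h1.symm)⟩
  have h6 := congrArg (QuotientGroup.mk' U) hw1
  have h5 : ∀ q, QuotientGroup.mk' U (f q) = c := fun q => hcu _ fun hq =>
    hout q ((QuotientGroup.eq_one_iff _).mp hq)
  rw [hw, map_prod, map_one] at h6
  simp only [h5] at h6
  rw [Finset.prod_const, Finset.card_univ] at h6
  have h7 : ¬ 2 ∣ Fintype.card (N ⧸ K) := by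
    rw [← Nat.card_eq_fintype_card]
    intro hd
    exact S.not_dvd_index (hd.trans ((Dvd.intro _ rfl).trans
      (Subgroup.relIndex_mul_index hSN).dvd))
  obtain ⟨k, hk⟩ := Nat.odd_iff.mpr (Nat.two_dvd_ne_zero.mp h7)
  have h8 : c ^ 2 = 1 := by
    have := pow_card_eq_one' (x := c)
    rwa [h2c] at this
  rw [hk, pow_succ, pow_mul, h8, one_pow, one_mul] at h6
  exact hc1 h6

/-- A finite group with no class size divisible by `4` is soluble, given that groups of odd order
are. -/
theorem solvable_of_not_four_dvd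
    (hFT : ∀ (H : Type u) [Group H] [Finite H], Odd (Nat.card H) → Group.IsSolvable H)
    (G : Type u) [Group G] [Finite G]
    (h : ∀ x : G, ¬ 4 ∣ (centralizer ({x} : Set G)).index) : Group.IsSolvable G := by
  obtain ⟨n, hn⟩ : ∃ n, Nat.card G = n := ⟨_, rfl⟩
  induction n using Nat.strong_induction_on generalizing G with
  | _ n ih =>
    subst hn
    by_contra hns
    have hnc : ¬ ∀ a b : G, a * b = b * a := fun hc => hns (Group.isSolvable_of_comm hc)
    haveI hnt : Nontrivial G := by
      by_contra hnt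
      haveI := not_nontrivial_iff_subsingleton.mp hnt
      exact hnc fun a b => Subsingleton.elim _ _
    haveI : IsSimpleGroup G := by
      refine { hnt with eq_bot_or_eq_top_of_normal := fun N hN => ?_ }
      by_contra hcon
      push Not at hcon
      haveI : Group.IsSolvable N := by
        refine ih (Nat.card N) (lt_of_le_of_ne (card_le_card_group N) fun e =>
          hcon.2 (eq_top_of_card_eq N e)) N (fun x hx => h x ?_) rfl
        refine hx.trans ?_
        have e : centralizer ({x} : Set N) = (centralizer ({(x : G)} : Set G)).subgroupOf N := by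
          ext y
          simp [mem_subgroupOf, mem_centralizer_singleton_iff, Subtype.ext_iff]
        rw [e]
        exact relIndex_dvd_index N _
      haveI : Group.IsSolvable (G ⧸ N) := by
        refine ih (Nat.card (G ⧸ N)) ?_ (G ⧸ N) (fun x hx => ?_) rfl
        · have h1 := N.one_lt_card_iff_ne_bot.mpr hcon.1
          have h2 := Subgroup.card_eq_card_quotient_mul_card_subgroup N
          have h3 : 0 < Nat.card (G ⧸ N) := Nat.card_pos
          rw [h2]
          exact lt_mul_of_one_lt_right h3 h1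
        · obtain ⟨g, rfl⟩ := QuotientGroup.mk'_surjective N x
          refine h g (hx.trans ?_)
          refine (Subgroup.index_dvd_of_le ?_).trans
            (Subgroup.index_map_dvd _ (QuotientGroup.mk'_surjective N))
          rintro _ ⟨y, hy, rfl⟩
          rw [mem_centralizer_singleton_iff, ← map_mul, ← map_mul]
          exact congrArg _ (mem_centralizer_singleton_iff.mp hy)
      exact hns (Group.isSolvable_of_ker_le_range N.subtype (QuotientGroup.mk' N)
        (by simp [Subgroup.range_subtype]))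
    have h2 : 2 ∣ Nat.card G := by
      by_contra h2
      exact hns (hFT G (Nat.odd_iff.mpr (Nat.two_dvd_ne_zero.mp h2)))
    obtain ⟨S⟩ := (inferInstance : Nonempty (Sylow 2 G))
    obtain ⟨s, -, hs1, huniv⟩ := exists_universal hnc h2 S
    have hC : centralizer ({s} : Set G) ≠ ⊤ := fun e => hs1 (by
      have hz : s ∈ Subgroup.center G := Subgroup.mem_center_iff.mpr fun g =>
        mem_centralizer_singleton_iff.mp (e ▸ mem_top g)
      rcases (inferInstance : (Subgroup.center G).Normal).eq_bot_or_eq_top with e' | e'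
      · exact mem_bot.mp (e' ▸ hz)
      · exact absurd (fun a b => (Subgroup.mem_center_iff.mp (e' ▸ mem_top a) b).symm) hnc)
    obtain ⟨g, hg⟩ := exists_forall_conj_notMem hC
    -- a subgroup of index at most two of a Sylow subgroup centralises `g`
    obtain ⟨R⟩ := (inferInstance : Nonempty (Sylow 2 (centralizer ({g} : Set G))))
    set R' := (R : Subgroup (centralizer ({g} : Set G))).map (centralizer ({g} : Set G)).subtype
    have hR' : IsPGroup 2 R' := R.2.map _
    obtain ⟨Q, hQ⟩ := hR'.exists_le_sylow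
    obtain ⟨z, hz⟩ := MulAction.exists_smul_eq G Q S
    have hcardR : Nat.card S ≤ 2 * Nat.card R' := by
      rw [S.card_eq_multiplicity, show Nat.card R' = Nat.card R from
        card_map_of_injective (centralizer ({g} : Set G)).subtype_injective, R.card_eq_multiplicity]
      have e := Subgroup.card_mul_index (centralizer ({g} : Set G))
      rw [← e, Nat.factorization_mul Nat.card_pos.ne' Subgroup.index_ne_zero_of_finite,
        Finsupp.add_apply, ← pow_succ']
      refine Nat.pow_le_pow_right (by norm_num) (Nat.add_le_add_left ?_ _)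
      by_contra hlt
      exact h g ((pow_dvd_pow 2 (show 2 ≤ (centralizer ({g} : Set G)).index.factorization 2 by omega)).trans
        (Nat.ordProj_dvd _ _))
    obtain ⟨y, hy⟩ := huniv (R'.map (MulAut.conj z).toMonoidHom) (by
        rintro _ ⟨r, hr, rfl⟩
        rw [← hz]
        show z * r * z⁻¹ ∈ (z • Q : Sylow 2 G)
        exact Subgroup.smul_mem_pointwise_smul (a := MulAut.conj z) _ _ (hQ hr))
      (hcardR.trans (Nat.mul_le_mul_left 2 (Subgroup.card_map_of_injective (K := R')
        (f := (MulAut.conj z).toMonoidHom) (MulAut.conj z).injective).ge))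
    obtain ⟨r, hr, hre⟩ := hy
    obtain ⟨⟨r', hr'⟩, -, rfl⟩ := hr
    refine hg (z⁻¹ * y) (mem_centralizer_singleton_iff.mpr ?_)
    have e1 : r' * g = g * r' := mem_centralizer_singleton_iff.mp hr'
    have e3 : z * r' * z⁻¹ = y * s * y⁻¹ := hre
    have e2 : (z⁻¹ * y)⁻¹ * r' * (z⁻¹ * y) = s := by
      rw [show (z⁻¹ * y)⁻¹ * r' * (z⁻¹ * y) = y⁻¹ * (z * r' * z⁻¹) * y by group, e3]
      group
    rw [← e2]
    calc ((z⁻¹ * y)⁻¹ * g * (z⁻¹ * y)) * ((z⁻¹ * y)⁻¹ * r' * (z⁻¹ * y))
        = (z⁻¹ * y)⁻¹ * (g * r') * (z⁻¹ * y) := by group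
      _ = (z⁻¹ * y)⁻¹ * (r' * g) * (z⁻¹ * y) := by rw [e1]
      _ = _ := by group

end Cfsg.Lib.ClassSize.FourIndex
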