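import Cfsg.Agent.S3195
import Cfsg.Agent.Components.Cores

/-!
# Groups all of whose subgroups have pairwise non-coprime class sizes

A non-soluble group has a `2`-element `s` and a non-trivial element `y` of odd order inverted by it
with `s ^ 2` centralising `y`; in the group they generate the classes of `y` and `s` have coprime
sizes `2` and a divisor of the order of `y`.
-/

set_option autoImplicit false
set_option linter.style.haveILetI false
set_option linter.unusedSectionVars false

universe u

namespace Cfsg.Lib.ClassSize.NonCoprime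

open Subgroup

variable {G : Type u} [Group G] [Finite G]

/-- Two classes of coprime sizes from an inversion. -/
theorem exists_coprime_classes {s y : G} (hy1 : y ≠ 1) (hyo : Odd (orderOf y))
    (hinv : s * y * s⁻¹ = y⁻¹) :
    ∃ (H : Subgroup G) (a b : H), 1 < (centralizer ({a} : Set H)).index ∧
      1 < (centralizer ({b} : Set H)).index ∧
      ((centralizer ({a} : Set H)).index).Coprime (centralizer ({b} : Set H)).index := by
  classical
  set H := closure ({y, s} : Set G) with hH
  have hyH : y ∈ H := subset_closure (by simp)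
  have hsH : s ∈ H := subset_closure (by simp)
  set Y := zpowers (⟨y, hyH⟩ : H) with hY
  have hne : s * y ≠ y * s := fun e => by
    rw [e, mul_inv_cancel_right] at hinv
    obtain ⟨k, hk⟩ := hyo
    have h2 : y ^ 2 = 1 := by rw [sq]; nth_rewrite 2 [hinv]; exact mul_inv_cancel y
    have h3 : orderOf y ∣ 2 := orderOf_dvd_of_pow_eq_one h2
    rcases (Nat.dvd_prime Nat.prime_two).mp h3 with h | h
    · exact hy1 (orderOf_eq_one_iff.mp h)
    · omega
  set a : H := ⟨y, hyH⟩
  set b : H := ⟨s, hsH⟩
  have hab : b * a ≠ a * b := fun e => hne (congrArg Subtype.val e)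
  have hbinv : b * a * b⁻¹ = a⁻¹ := Subtype.ext hinv
  have hs2 : b * b * a = a * (b * b) := by
    have h1 : b * b * a * (b * b)⁻¹ = a := by
      calc b * b * a * (b * b)⁻¹ = b * (b * a * b⁻¹) * b⁻¹ := by group
        _ = b * a⁻¹ * b⁻¹ := by rw [hbinv]
        _ = (b * a * b⁻¹)⁻¹ := by group
        _ = a := by rw [hbinv, inv_inv]
    exact mul_inv_eq_iff_eq_mul.mp h1
  have hgen : closure ({a, b} : Set H) = ⊤ := by
    apply Subgroup.map_injective H.subtype_injective
    rw [← MonoidHom.range_eq_map, Subgroup.range_subtype, MonoidHom.map_closure]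
    simp [a, b, hH, Set.image_pair]
  refine ⟨H, a, b, ?_, ?_, ?_⟩
  · refine (centralizer ({a} : Set H)).one_lt_index_of_ne_top fun e => hab ?_
    exact mem_centralizer_singleton_iff.mp (e ▸ mem_top b)
  · refine (centralizer ({b} : Set H)).one_lt_index_of_ne_top fun e => hab ?_
    exact (mem_centralizer_singleton_iff.mp (e ▸ mem_top a)).symm
  · -- the class of `a` has size two, that of `b` divides the order of `a`
    set C := centralizer ({a} : Set H)
    have haC : a ∈ C := mem_centralizer_singleton_iff.mpr rfl
    have hbbC : b * b ∈ C := mem_centralizer_singleton_iff.mpr hs2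
    have hCi : C.index = 2 := by
      rw [Subgroup.index_eq_two_iff]
      refine ⟨b, fun x => ?_⟩
      have key : ∀ x : H, x ∈ C ∨ x * b ∈ C := by
        intro x
        have hx : x ∈ closure ({a, b} : Set H) := hgen ▸ mem_top x
        have hflip : ∀ x : H, x * b ∈ C → b * x ∈ C := fun x hx => by
          have hm : b * (x * b) * b⁻¹ ∈ C := by
            rw [mem_centralizer_singleton_iff] at hx ⊢
            have hbi : b * a⁻¹ * b⁻¹ = a := by
              rw [show b * a⁻¹ * b⁻¹ = (b * a * b⁻¹)⁻¹ by group, hbinv, inv_inv]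
            have hx' : x * b * a⁻¹ = a⁻¹ * (x * b) :=
              ((show Commute (x * b) a from hx).inv_right).eq
            calc b * (x * b) * b⁻¹ * a = b * (x * b) * b⁻¹ * (b * a⁻¹ * b⁻¹) := by rw [hbi]
              _ = b * (x * b * a⁻¹) * b⁻¹ := by group
              _ = b * (a⁻¹ * (x * b)) * b⁻¹ := by rw [hx']
              _ = b * a⁻¹ * b⁻¹ * (b * (x * b) * b⁻¹) := by group
              _ = a * (b * (x * b) * b⁻¹) := by rw [hbi]
          rwa [show b * (x * b) * b⁻¹ = b * x by group] at hm
        have hCb : ∀ x ∈ C, b * x * b⁻¹ ∈ C ∧ b⁻¹ * x * b ∈ C := fun x hx => by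
          have e1 : b⁻¹ * a * b = a⁻¹ := by
            have := congrArg (fun z => b⁻¹ * z⁻¹ * b) hbinv
            simp only [inv_inv] at this
            rw [← this]; group
          have hc : Commute x a := mem_centralizer_singleton_iff.mp hx
          constructor <;> rw [mem_centralizer_singleton_iff]
          · have h := (hc.inv_right).map (MulAut.conj b).toMonoidHom
            simp only [MulEquiv.coe_toMonoidHom, MulAut.conj_apply] at h
            rwa [show b * a⁻¹ * b⁻¹ = (b * a * b⁻¹)⁻¹ by group, hbinv, inv_inv] at h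
          · have h := (hc.inv_right).map (MulAut.conj b⁻¹).toMonoidHom
            simp only [MulEquiv.coe_toMonoidHom, MulAut.conj_apply, inv_inv] at h
            rwa [show b⁻¹ * a⁻¹ * b = (b⁻¹ * a * b)⁻¹ by group, e1, inv_inv] at h
        have hcl : ∀ u v : H, u * b ∈ C → v * b ∈ C → u * v ∈ C := fun u v hu hv => by
          have e : u * v = (u * b) * ((b * b)⁻¹ * (b * v)) := by group
          rw [e]
          exact mul_mem hu (mul_mem (inv_mem hbbC) (hflip v hv))
        induction hx using Subgroup.closure_induction with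
        | mem x hx =>
          rcases hx with rfl | rfl
          · exact Or.inl haC
          · exact Or.inr hbbC
        | one => exact Or.inl (one_mem _)
        | mul u v _ _ hu hv =>
          rcases hu with hu | hu <;> rcases hv with hv | hv
          · exact Or.inl (mul_mem hu hv)
          · right; rw [mul_assoc]; exact mul_mem hu hv
          · right
            rw [show u * v * b = (u * b) * (b⁻¹ * v * b) by group]
            exact mul_mem hu (hCb v hv).2
          · exact Or.inl (hcl u v hu hv)
        | inv u _ hu =>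
          rcases hu with hu | hu
          · exact Or.inl (inv_mem hu)
          · right
            rw [show u⁻¹ * b = b * (u * b)⁻¹ * b⁻¹ * (b * b) by group]
            exact mul_mem (hCb _ (inv_mem hu)).1 hbbC
      rcases key x with hx | hx
      · exact Or.inr ⟨hx, fun h => hab (mem_centralizer_singleton_iff.mp
          (show b ∈ C by simpa using mul_mem (inv_mem hx) h))⟩
      · exact Or.inl ⟨hx, fun h => hab (mem_centralizer_singleton_iff.mp
          (show b ∈ C by simpa using mul_mem (inv_mem h) hx))⟩
    rw [hCi, Nat.coprime_two_left]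
    set D := centralizer ({b} : Set H)
    have hnorm : Y.Normal := by
      refine normalizer_eq_top_iff.mp (top_le_iff.mp ?_)
      rw [← hgen, closure_le]
      rintro z (rfl | rfl)
      · exact Subgroup.le_normalizer (mem_zpowers a)
      · rw [SetLike.mem_coe, mem_normalizer_iff]
        intro w
        have e : ∀ n : ℤ, b * a ^ n * b⁻¹ = a ^ (-n) := fun n => by
          rw [← conj_zpow, hbinv, inv_zpow, zpow_neg]
        constructor
        · rintro ⟨n, rfl⟩
          exact ⟨-n, (e n).symm⟩
        · rintro ⟨n, hn⟩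
          refine ⟨-n, mul_left_cancel (a := b) (mul_right_cancel (b := b⁻¹) ?_)⟩
          show b * a ^ (-n) * b⁻¹ = b * w * b⁻¹
          rw [e, neg_neg]; exact hn
    have hsup : D ⊔ Y = ⊤ := by
      rw [← top_le_iff, ← hgen, closure_le]
      rintro z (rfl | rfl)
      · exact mem_sup_right (mem_zpowers a)
      · exact mem_sup_left (mem_centralizer_singleton_iff.mpr rfl)
    have hd : D.index ∣ Nat.card Y := by
      haveI := hnorm
      have e1 := Subgroup.relIndex_mul_index (inf_le_left : D ⊓ Y ≤ D)
      have e2 := Subgroup.relIndex_mul_index (inf_le_right : D ⊓ Y ≤ Y)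
      rw [inf_relIndex_left] at e1
      rw [inf_relIndex_right, ← e1] at e2
      have e3 : Y.relIndex D = Y.index := by
        rw [← Subgroup.relIndex_sup_right (H := D) (K := Y), hsup, Subgroup.relIndex_top_right]
      rw [e3, mul_comm] at e2
      rw [← Nat.eq_of_mul_eq_mul_left (Nat.pos_of_ne_zero Subgroup.index_ne_zero_of_finite) e2]
      exact Subgroup.index_dvd_card (D.subgroupOf Y)
    refine Odd.of_dvd_nat ?_ hd
    rw [hY, Nat.card_zpowers, ← Subgroup.orderOf_coe]
    exact hyo

/-- A non-soluble group has an element of odd order inverted by some element, given that groups of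
odd order are soluble. -/
theorem exists_inversion
    (hFT : ∀ (H : Type u) [Group H] [Finite H], Odd (Nat.card H) → Group.IsSolvable H)
    (G : Type u) [Group G] [Finite G] (hns : ¬ Group.IsSolvable G) :
    ∃ s y : G, y ≠ 1 ∧ Odd (orderOf y) ∧ s * y * s⁻¹ = y⁻¹ := by
  obtain ⟨n, hn⟩ : ∃ n, Nat.card G = n := ⟨_, rfl⟩
  induction n using Nat.strong_induction_on generalizing G with
  | _ n ih =>
    subst hn
    by_contra hno
    push Not at hno
    haveI hnt : Nontrivial G := by
      by_contra hnt
      haveI := not_nontrivial_iff_subsingleton.mp hnt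
      exact hns (Group.isSolvable_of_comm fun a b => Subsingleton.elim _ _)
    have h2 : 2 ∣ Nat.card G := by
      by_contra h2
      exact hns (hFT G (Nat.odd_iff.mpr (Nat.two_dvd_ne_zero.mp h2)))
    -- the largest normal `2`-subgroup
    set N := Cfsg.pCore 2 G with hN
    haveI : Fact (Nat.Prime 2) := ⟨Nat.prime_two⟩
    haveI hNn : N.Normal := (Cfsg.Lib.Components.pCore_normal_and_isPGroup 2).1
    have hN2 : IsPGroup 2 N := (Cfsg.Lib.Components.pCore_normal_and_isPGroup 2).2
    by_cases hall : ∀ a : G, a * a = 1 → a ∈ N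
    · -- all involutions in `N`: pass to the quotient
      obtain ⟨t, ht⟩ := exists_prime_orderOf_dvd_card' 2 h2
      have ht2 : t * t = 1 := by rw [← sq, ← ht, pow_orderOf_eq_one]
      have ht1 : t ≠ 1 := fun e => by rw [e, orderOf_one] at ht; omega
      have hNb : N ≠ ⊥ := fun e => ht1 (mem_bot.mp (e ▸ hall t ht2))
      have hlt : Nat.card (G ⧸ N) < Nat.card G := by
        rw [Subgroup.card_eq_card_quotient_mul_card_subgroup N]
        exact lt_mul_of_one_lt_right Nat.card_pos (N.one_lt_card_iff_ne_bot.mpr hNb)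
      have hQ : ¬ Group.IsSolvable (G ⧸ N) := fun h => by
        haveI := h
        haveI := hN2.isNilpotent
        exact hns (Group.isSolvable_of_ker_le_range N.subtype (QuotientGroup.mk' N)
          (by simp [Subgroup.range_subtype]))
      obtain ⟨s', y', hy1, hyo, hinv⟩ := ih _ hlt (G ⧸ N) hQ rfl
      obtain ⟨g, rfl⟩ := QuotientGroup.mk'_surjective N y'
      obtain ⟨σ, rfl⟩ := QuotientGroup.mk'_surjective N s'
      -- a Sylow subgroup over an odd prime of the preimage of `⟨ȳ⟩`
      obtain ⟨r, hr, hrd⟩ := Nat.exists_prime_and_dvd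
        (fun e => hy1 (orderOf_eq_one_iff.mp e) : orderOf (QuotientGroup.mk' N g) ≠ 1)
      haveI := Fact.mk hr
      set L := (zpowers (QuotientGroup.mk' N g)).comap (QuotientGroup.mk' N) with hL
      obtain ⟨R⟩ := (inferInstance : Nonempty (Sylow r L))
      have hσL : σ ∈ normalizer (L : Set G) := by
        refine Subgroup.le_normalizer_comap _ (mem_comap.mpr (mem_normalizer_iff.mpr fun w => ?_))
        have e : ∀ m : ℤ, QuotientGroup.mk' N σ * QuotientGroup.mk' N g ^ m *
            (QuotientGroup.mk' N σ)⁻¹ = QuotientGroup.mk' N g ^ (-m) := fun m => by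
          rw [← conj_zpow, hinv, inv_zpow, zpow_neg]
        constructor
        · rintro ⟨m, rfl⟩
          exact ⟨-m, (e m).symm⟩
        · rintro ⟨m, hm⟩
          refine ⟨-m, mul_left_cancel (a := QuotientGroup.mk' N σ)
            (mul_right_cancel (b := (QuotientGroup.mk' N σ)⁻¹) ?_)⟩
          show QuotientGroup.mk' N σ * QuotientGroup.mk' N g ^ (-m) * _ = _
          rw [e, neg_neg]; exact hm
      -- Frattini
      set R' := (R : Subgroup L).map L.subtype with hR'
      obtain ⟨s₀, hs₀R, hs₀bar⟩ : ∃ s ∈ normalizer (R' : Set G),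
          ∀ m : ℤ, QuotientGroup.mk' N (s) * QuotientGroup.mk' N g ^ m *
            (QuotientGroup.mk' N s)⁻¹ = QuotientGroup.mk' N g ^ (-m) := by
        let φ : L →* L :=
          { toFun := fun x => ⟨σ * x * σ⁻¹, (mem_normalizer_iff.mp hσL x).mp x.2⟩
            map_one' := Subtype.ext (by simp)
            map_mul' := fun x y => Subtype.ext (by simp [mul_assoc]) }
        have hφ : Function.Injective φ := fun x y h => Subtype.ext
          (mul_left_cancel (mul_right_cancel (congrArg Subtype.val h)))
        have hRc : IsPGroup r ((R : Subgroup L).map φ) := R.2.map φ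
        obtain ⟨Q, hQ⟩ := hRc.exists_le_sylow
        obtain ⟨l, hl⟩ := MulAction.exists_smul_eq L Q R
        refine ⟨(l : G) * σ, ?_, fun m => ?_⟩
        · have hle : R'.map (MulAut.conj ((l : G) * σ)).toMonoidHom ≤ R' := by
            rintro _ ⟨_, ⟨x, hx, rfl⟩, rfl⟩
            refine ⟨l * φ x * l⁻¹, ?_, ?_⟩
            · rw [← hl]
              exact Subgroup.smul_mem_pointwise_smul (a := MulAut.conj l) _ _ (hQ ⟨x, hx, rfl⟩)
            · show (l : G) * (σ * x * σ⁻¹) * (l : G)⁻¹ = (l : G) * σ * x * ((l : G) * σ)⁻¹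
              group
          exact (Subgroup.mem_normalizer_iff_map_conj_eq).mpr
            (eq_of_le_of_card_ge hle (card_map_of_injective (MulAut.conj _).injective).ge)
        · obtain ⟨k, hk⟩ := mem_comap.mp l.2
          have hk' : QuotientGroup.mk' N g ^ k = QuotientGroup.mk' N (l : G) := hk
          rw [map_mul, ← hk', mul_inv_rev]
          calc _ = QuotientGroup.mk' N g ^ k * (QuotientGroup.mk' N σ * QuotientGroup.mk' N g ^ m *
                (QuotientGroup.mk' N σ)⁻¹) * (QuotientGroup.mk' N g ^ k)⁻¹ := by group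
            _ = _ := by rw [← conj_zpow, hinv, inv_zpow, ← zpow_neg]; group
      -- an odd power of `s₀` of `2`-power order
      obtain ⟨e, m, hm, he⟩ := Nat.exists_eq_two_pow_mul_odd (orderOf_pos s₀).ne'
      set s := s₀ ^ m with hs
      have hse : s ^ 2 ^ e = 1 := by rw [hs, ← pow_mul, mul_comm, ← he, pow_orderOf_eq_one]
      have hsR : s ∈ normalizer (R' : Set G) := pow_mem hs₀R m
      have hsbar : ∀ i : ℤ, QuotientGroup.mk' N s * QuotientGroup.mk' N g ^ i *
          (QuotientGroup.mk' N s)⁻¹ = QuotientGroup.mk' N g ^ (-i) := by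
        have h2 : ∀ i : ℤ, (QuotientGroup.mk' N s₀ ^ 2) * QuotientGroup.mk' N g ^ i *
            (QuotientGroup.mk' N s₀ ^ 2)⁻¹ = QuotientGroup.mk' N g ^ i := fun i => by
          rw [sq, mul_inv_rev]
          calc _ = QuotientGroup.mk' N s₀ * (QuotientGroup.mk' N s₀ * QuotientGroup.mk' N g ^ i *
                (QuotientGroup.mk' N s₀)⁻¹) * (QuotientGroup.mk' N s₀)⁻¹ := by group
            _ = _ := by rw [hs₀bar, hs₀bar, neg_neg]
        obtain ⟨k, hk⟩ := hm
        intro i
        rw [hs, map_pow, hk, pow_succ', pow_mul]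
        have h3 : Commute ((QuotientGroup.mk' N s₀ ^ 2) ^ k) (QuotientGroup.mk' N g ^ i) :=
          (show Commute _ _ from mul_inv_eq_iff_eq_mul.mp (h2 i)).pow_left k
        calc _ = QuotientGroup.mk' N s₀ * ((QuotientGroup.mk' N s₀ ^ 2) ^ k * QuotientGroup.mk' N g ^ i *
              ((QuotientGroup.mk' N s₀ ^ 2) ^ k)⁻¹) * (QuotientGroup.mk' N s₀)⁻¹ := by group
          _ = _ := by rw [h3.eq, mul_inv_cancel_right, hs₀bar]
      -- `R'` is moved by `s`
      obtain ⟨x, hx, hxs⟩ : ∃ x ∈ R', s * x ≠ x * s := by
        by_contra hcon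
        push Not at hcon
        have hdvd : r ∣ Nat.card L := by
          refine hrd.trans ?_
          rw [← Nat.card_zpowers]
          exact Subgroup.card_dvd_of_surjective ((QuotientGroup.mk' N).subgroupComap _)
            ((QuotientGroup.mk' N).subgroupComap_surjective_of_surjective _
              (QuotientGroup.mk'_surjective N))
        obtain ⟨x, hx⟩ := exists_prime_orderOf_dvd_card' r
          (show r ∣ Nat.card (R : Subgroup L) from R.dvd_card_of_dvd_card hdvd)
        have hxR : ((x : L) : G) ∈ R' := ⟨_, x.2, rfl⟩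
        have hxo : orderOf ((x : L) : G) = r := by
          rw [Subgroup.orderOf_coe, Subgroup.orderOf_coe, hx]
        have hr2 : r ≠ 2 := fun e => Nat.not_even_iff_odd.2 hyo (even_iff_two_dvd.2 (e ▸ hrd))
        obtain ⟨m, hm⟩ := mem_comap.mp (x : L).2
        have hm' : QuotientGroup.mk' N g ^ m = QuotientGroup.mk' N ((x : L) : G) := hm
        have e1 := hsbar m
        rw [hm', ← map_mul, hcon _ hxR, map_mul, mul_inv_cancel_right, zpow_neg, hm'] at e1
        have e2 : QuotientGroup.mk' N (((x : L) : G) ^ 2) = 1 := by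
          rw [map_pow, sq]; nth_rewrite 2 [e1]; exact mul_inv_cancel _
        have e3 : ((x : L) : G) ^ 2 ∈ N := (QuotientGroup.eq_one_iff _).mp e2
        obtain ⟨j, hj⟩ := hN2 ⟨_, e3⟩
        have e4 : (((x : L) : G) ^ 2) ^ 2 ^ j = 1 := congrArg Subtype.val hj
        rw [← pow_mul, ← pow_succ', ← orderOf_dvd_iff_pow_eq_one, hxo] at e4
        exact hr2 ((Nat.prime_dvd_prime_iff_eq hr Nat.prime_two).mp (hr.dvd_of_dvd_pow e4))
      -- an element of `2`-power order moving `R'`
      have hr2 : r ≠ 2 := fun e => Nat.not_even_iff_odd.2 hyo (even_iff_two_dvd.2 (e ▸ hrd))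
      have hRodd : ∀ z ∈ R', Odd (orderOf z) := by
        rintro _ ⟨z, hz, rfl⟩
        obtain ⟨j, hj⟩ := IsPGroup.iff_orderOf.mp R.2 ⟨z, hz⟩
        rw [show orderOf (L.subtype z) = orderOf (⟨z, hz⟩ : (R : Subgroup L)) by
          rw [Subgroup.orderOf_mk]; exact Subgroup.orderOf_coe z, hj]
        exact (hr.odd_of_ne_two hr2).pow
      by_cases hmv : ∃ k : ℕ, ∃ z ∈ R', s ^ 2 ^ k * z ≠ z * s ^ 2 ^ k ∧
          ∀ w ∈ R', s ^ 2 ^ (k + 1) * w = w * s ^ 2 ^ (k + 1)
      · obtain ⟨k, z, hz, hne, hfix⟩ := hmv
        set τ := s ^ 2 ^ k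
        have hτ2 : s ^ 2 ^ (k + 1) = τ * τ := by rw [pow_succ, pow_mul, sq]
        have hτn : τ * z * τ⁻¹ ∈ R' :=
          (mem_normalizer_iff.mp (pow_mem hsR (2 ^ k)) z).mp hz
        set y := z⁻¹ * (τ * z * τ⁻¹)
        have hy : y ∈ R' := mul_mem (inv_mem hz) hτn
        refine hno τ y (fun e => hne ?_) (hRodd y hy) ?_
        · exact mul_inv_eq_iff_eq_mul.mp (inv_mul_eq_one.mp e).symm
        · have e := hfix z hz
          rw [hτ2] at e
          calc τ * y * τ⁻¹ = τ * z⁻¹ * τ⁻¹ * (τ * τ * z * (τ * τ)⁻¹) := by
                simp only [y]; group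
            _ = τ * z⁻¹ * τ⁻¹ * z := by rw [e, mul_inv_cancel_right]
            _ = y⁻¹ := by simp only [y]; group
      · push Not at hmv
        have hdown : ∀ j : ℕ, ∀ k : ℕ, (∀ w ∈ R', s ^ 2 ^ (k + j) * w = w * s ^ 2 ^ (k + j)) →
            ∀ w ∈ R', s ^ 2 ^ k * w = w * s ^ 2 ^ k := by
          intro j
          induction j with
          | zero => exact fun k h => h
          | succ j ihj =>
            intro k h
            refine ihj k fun w hw => ?_
            by_contra hne
            obtain ⟨w', hw', hw''⟩ := hmv (k + j) w hw hne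
            exact hw'' (h w' hw')
        refine hxs ?_
        have := hdown e 0 (fun w _ => by rw [zero_add, hse, one_mul, mul_one]) x hx
        simpa using this
    · push Not at hall
      obtain ⟨a, ha2, haN⟩ := hall
      obtain ⟨y, hy1, hyo, hy⟩ := Cfsg.Agent.S3195.exists_inverted ha2 haN
      refine hno a y hy1 hyo ?_
      rwa [inv_eq_of_mul_eq_one_right ha2]

/-- A group all of whose subgroups have pairwise non-coprime class sizes is soluble, given that
groups of odd order are. -/
theorem solvable_of_noncoprime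
    (hFT : ∀ (H : Type u) [Group H] [Finite H], Odd (Nat.card H) → Group.IsSolvable H)
    (G : Type u) [Group G] [Finite G]
    (h : ∀ (H : Subgroup G) (x y : H), 1 < (centralizer ({x} : Set H)).index →
      1 < (centralizer ({y} : Set H)).index →
      ¬ ((centralizer ({x} : Set H)).index).Coprime (centralizer ({y} : Set H)).index) :
    Group.IsSolvable G := by
  by_contra hns
  obtain ⟨s, y, hy1, hyo, hinv⟩ := exists_inversion hFT G hns
  obtain ⟨H, a, b, ha, hb, hab⟩ := exists_coprime_classes hy1 hyo hinv
  exact h H a b ha hb hab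

end Cfsg.Lib.ClassSize.NonCoprime
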