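import Cfsg.Agent.ClassSize.Basic
import Cfsg.Agent.ClassSize.Orbit.Main
import Cfsg.Agent.Components.Cores
import Cfsg.Agent.S4364
import Cfsg.Agent.S0001
import Cfsg.Agent.PGroups.Basic

/-!
Groups in which all `q`-elements have prime-power class size.
-/

set_option autoImplicit false
set_option linter.unusedSectionVars false
set_option linter.unusedVariables false
set_option linter.style.haveILetI false

open scoped commutatorElement

namespace Cfsg.Lib.QBaer

open Subgroup Cfsg Cfsg.Lib.ClassSize Cfsg.Lib.Components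

universe u

variable {G : Type u} [Group G] [Finite G] {q : ℕ} [Fact q.Prime]

theorem orderOf_pow_q {Q : Subgroup G} (hQ : IsPGroup q Q) {x : G} (hx : x ∈ Q) : ∃ k, orderOf x = q ^ k := by
  obtain ⟨k, hk⟩ := IsPGroup.iff_orderOf.mp hQ ⟨x, hx⟩
  exact ⟨k, by rwa [Subgroup.orderOf_mk] at hk⟩

theorem isPGroup_zpowers {x : G} (hx : ∃ k, orderOf x = q ^ k) : IsPGroup q (zpowers x) := by
  obtain ⟨k, hk⟩ := hx
  exact IsPGroup.of_card (n := k) (by rw [Nat.card_zpowers, hk])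

theorem dvd_index_iff_of_cop {x : G} {r a : ℕ} (hr : r.Prime) (hrq : r ≠ q) (hcs : cs x = r ^ a) : ¬ q ∣ cs x := by
  rw [hcs]
  exact fun h => hrq ((Nat.prime_dvd_prime_iff_eq Fact.out hr).mp (Nat.Prime.dvd_of_dvd_pow Fact.out h)).symm

/-- A `q`-element with class size prime to `q` is central in some Sylow `q`-subgroup. -/
theorem mem_center_sylow {x : G} (hx : ∃ k, orderOf x = q ^ k) (hcs : ¬ q ∣ cs x) :
    ∃ Q : Sylow q G, x ∈ (Q : Subgroup G) ∧ (Q : Subgroup G) ≤ centralizer ({x} : Set G) := by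
  obtain ⟨P⟩ : Nonempty (Sylow q (centralizer ({x} : Set G))) := inferInstance
  have hS : IsPGroup q ((P : Subgroup (centralizer ({x} : Set G))).map (centralizer ({x} : Set G)).subtype) := P.2.map _
  obtain ⟨Q, hQ⟩ := hS.exists_le_sylow
  have hle : Nat.card (Q : Subgroup G) ≤ Nat.card ((P : Subgroup (centralizer ({x} : Set G))).map (centralizer ({x} : Set G)).subtype) := by
    rw [Subgroup.card_map_of_injective (centralizer ({x} : Set G)).subtype_injective, Q.card_eq_multiplicity,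
      P.card_eq_multiplicity]
    refine Nat.pow_le_pow_right (Fact.out : q.Prime).pos ?_
    rw [← (centralizer ({x} : Set G)).card_mul_index, Nat.factorization_mul Nat.card_pos.ne' Subgroup.index_ne_zero_of_finite,
      Finsupp.add_apply, Nat.factorization_eq_zero_of_not_dvd hcs, add_zero]
  have hQC : (Q : Subgroup G) ≤ centralizer ({x} : Set G) := (Subgroup.eq_of_le_of_card_ge hQ hle).symm.trans_le (map_subtype_le _)
  refine ⟨Q, ?_, hQC⟩
  have hp : IsPGroup q ↥((Q : Subgroup G) ⊔ zpowers x) := by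
    refine IsPGroup.to_sup_of_normal_right' Q.2 (isPGroup_zpowers hx) ?_
    intro y hy
    rw [Subgroup.mem_normalizer_iff]
    have hc : ∀ z ∈ zpowers x, y * z = z * y := fun z hz => by
      obtain ⟨i, rfl⟩ := hz
      exact ((mem_cent.mp (hQC hy)).zpow_right i)
    intro z
    constructor
    · intro hz; rw [hc z hz, mul_inv_cancel_right]; exact hz
    · intro hz
      have h1 := hc _ hz
      rw [mul_assoc (y * z), inv_mul_cancel, mul_one] at h1
      rw [mul_left_cancel h1] at hz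
      exact hz
  exact Q.3 hp le_sup_left ▸ (le_sup_right : zpowers x ≤ _) (mem_zpowers x)

theorem mem_pCore_of_cs {x : G} (hx : ∃ k, orderOf x = q ^ k) {b : ℕ} (hcs : cs x = q ^ b) :
    x ∈ Cfsg.pCore q G := by
  obtain ⟨Q, hQ⟩ := (isPGroup_zpowers hx).exists_le_sylow
  have hxQ : x ∈ (Q : Subgroup G) := hQ (mem_zpowers x)
  have hcop : (centralizer ({x} : Set G)).index.Coprime (Q : Subgroup G).index := by
    show (cs x).Coprime _
    rw [hcs]
    exact Nat.Coprime.pow_left _ ((Nat.Prime.coprime_iff_not_dvd Fact.out).mpr Q.not_dvd_index)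
  haveI hN : (normalClosure ({x} : Set G)).Normal := normalClosure_normal
  refine le_pCore (hn := hN) (Q.2.to_le ?_) (subset_normalClosure (Set.mem_singleton x))
  show normalClosure ({x} : Set G) ≤ Q
  rw [normalClosure, closure_le]
  intro y hy
  obtain ⟨a, ha0, hconj⟩ := Group.mem_conjugatesOfSet_iff.mp hy
  obtain rfl : a = x := ha0
  obtain ⟨g, rfl⟩ := isConj_iff.mp hconj
  obtain ⟨c, hc, d, hd, hcd⟩ := exists_mul_of_coprime hcop g⁻¹
  have hg : g = d⁻¹ * c⁻¹ := by rw [← inv_inv g, hcd, mul_inv_rev]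
  have h1 : c⁻¹ * a * c = a := by rw [mul_assoc, ← (mem_cent.mp hc).eq, inv_mul_cancel_left]
  have h2 : g * a * g⁻¹ = d⁻¹ * (c⁻¹ * a * c) * d := by rw [hg]; group
  show g * a * g⁻¹ ∈ (Q : Subgroup G)
  rw [h2, h1]
  exact mul_mem (mul_mem (inv_mem hd) hxQ) hd

theorem mul_pow_q {a b : G} (ha : ∃ k, orderOf a = q ^ k) (hb : ∃ k, orderOf b = q ^ k) (hc : Commute a b) :
    ∃ k, orderOf (a * b) = q ^ k := by
  obtain ⟨i, hi⟩ := ha
  obtain ⟨j, hj⟩ := hb
  have h : (a * b) ^ q ^ (i + j) = 1 := by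
    have ha' : a ^ q ^ i = 1 := hi ▸ pow_orderOf_eq_one a
    have hb' : b ^ q ^ j = 1 := hj ▸ pow_orderOf_eq_one b
    rw [hc.mul_pow, pow_add, pow_mul, ha', one_pow, one_mul, mul_comm, pow_mul, hb', one_pow]
  obtain ⟨k, -, hk⟩ := (Nat.dvd_prime_pow Fact.out).mp (orderOf_dvd_of_pow_eq_one h)
  exact ⟨k, hk⟩

theorem eq_of_cs {a b : G} {r s i j t c : ℕ} (hr : r.Prime) (hs : s.Prime) (ht : t.Prime) (hrs : r ≠ s)
    (ha : cs a = r ^ i) (hb : cs b = s ^ j) (ha1 : cs a ≠ 1) (hcm : Commute a b) (hab : cs (a * b) = t ^ c) :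
    cs (a * b) = cs b ∨ (cs (a * b) = cs a ∧ t = r) := by
  have hcop : (cs a).Coprime (cs b) := by
    rw [ha, hb]; exact Nat.Coprime.pow _ _ ((Nat.coprime_primes hr hs).mpr hrs)
  have h1 : cs b ≤ cs (a * b) := cs_le_cs_mul hcop
  have h2 : cs a ≤ cs (a * b) := by
    have h := cs_le_cs_mul hcop.symm
    rwa [hcm.symm.eq] at h
  have h3 := cs_mul_dvd hcop
  rcases Nat.eq_zero_or_pos c with rfl | hc0
  · rw [pow_zero] at hab
    rw [hab] at h2
    have : cs a ≠ 0 := Subgroup.index_ne_zero_of_finite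
    omega
  have hdt : t ∣ r ^ i * s ^ j := (dvd_pow_self t hc0.ne').trans (hab ▸ ha ▸ hb ▸ h3)
  rcases (Nat.Prime.dvd_mul ht).mp hdt with h | h
  · obtain rfl : t = r := (Nat.prime_dvd_prime_iff_eq ht hr).mp (ht.dvd_of_dvd_pow h)
    right
    refine ⟨le_antisymm ?_ h2, rfl⟩
    rw [ha, hab]
    refine Nat.le_of_dvd (pow_pos hr.pos _) ?_
    have hcp : (t ^ c).Coprime (s ^ j) := Nat.Coprime.pow _ _ ((Nat.coprime_primes hr hs).mpr hrs)
    exact hcp.dvd_of_dvd_mul_right (hab ▸ ha ▸ hb ▸ h3)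
  · obtain rfl : t = s := (Nat.prime_dvd_prime_iff_eq ht hs).mp (ht.dvd_of_dvd_pow h)
    left
    refine le_antisymm ?_ h1
    rw [hb, hab]
    refine Nat.le_of_dvd (pow_pos hs.pos _) ?_
    have hcp : (t ^ c).Coprime (r ^ i) := Nat.Coprime.pow _ _ ((Nat.coprime_primes hs hr).mpr hrs.symm)
    exact hcp.dvd_of_dvd_mul_left (hab ▸ ha ▸ hb ▸ h3)

/-- Translation by the commutators of `a` kills `a`, if `a` or `b` has class size prime to `q`. -/
theorem absorbed {a b : G} {r s i j : ℕ} (hr : r.Prime) (hs : s.Prime) (hrs : r ≠ s)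
    (ha : cs a = r ^ i) (hb : cs b = s ^ j) (ha1 : cs a ≠ 1) (hsq : s ≠ q)
    (hao : ∃ k, orderOf a = q ^ k) (he : cs (a * b) = cs b) : False := by
  have hcop : (cs a).Coprime (cs b) := by
    rw [ha, hb]; exact Nat.Coprime.pow _ _ ((Nat.coprime_primes hr hs).mpr hrs)
  obtain ⟨M, hMn, hM, hMd⟩ := exists_stabilizer hcop he
  obtain ⟨hq, -⟩ := commute_conj_of_stabilizer (Fact.out : q.Prime) hao ha1 hMn hM (hcop.coprime_dvd_right hMd)
  exact dvd_index_iff_of_cop hs hsq hb (hq.trans hMd)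

/-- An element of `q`-power class size in a normal Sylow subgroup is conjugate to a fixed point of a complement. -/
theorem exists_conj_complement (Q : Sylow q G) [hQn : (Q : Subgroup G).Normal] {K : Subgroup G}
    (hK : Subgroup.IsComplement' (Q : Subgroup G) K) {w : G} (hw : w ∈ (Q : Subgroup G)) {l : ℕ}
    (hwl : cs w = q ^ l) : ∃ u ∈ (Q : Subgroup G), u⁻¹ * w * u ∈ (Q : Subgroup G) ⊓ centralizer (K : Set G) := by
  have hcop : (Nat.card (Q : Subgroup G)).Coprime (Q : Subgroup G).index := Q.card_coprime_index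
  haveI := (Q.2).isNilpotent
  set D := centralizer ({w} : Set G)
  have hidx : (Q : Subgroup G).relIndex D = (Q : Subgroup G).index := by
    refine Nat.dvd_antisymm (Subgroup.relIndex_dvd_index_of_normal _ _) ?_
    have h1 := Subgroup.card_mul_index (Q : Subgroup G)
    have h2 := Subgroup.card_mul_index D
    have h3 : Nat.card D = Nat.card ↥((Q : Subgroup G) ⊓ D) * (Q : Subgroup G).relIndex D := by
      rw [← Subgroup.relIndex_bot_left, ← Subgroup.relIndex_bot_left, ← Subgroup.inf_relIndex_right (Q : Subgroup G) D,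
        Subgroup.relIndex_mul_relIndex ⊥ _ D bot_le inf_le_right]
    have h4 : (Q : Subgroup G).index ∣ Nat.card ↥((Q : Subgroup G) ⊓ D) * (Q : Subgroup G).relIndex D * q ^ l := by
      rw [← h3, ← hwl, h2, ← h1]; exact dvd_mul_left _ _
    obtain ⟨e, he⟩ := IsPGroup.iff_card.mp (Q.2.to_le (inf_le_left : (Q : Subgroup G) ⊓ D ≤ Q))
    rw [he, mul_comm (q ^ e), mul_assoc, ← pow_add] at h4
    exact (Nat.Coprime.pow_right _ ((Nat.Prime.coprime_iff_not_dvd Fact.out).mpr Q.not_dvd_index).symm).dvd_of_dvd_mul_right h4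
  have hcopD : (Nat.card ((Q : Subgroup G).subgroupOf D)).Coprime ((Q : Subgroup G).subgroupOf D).index := by
    have h5 : Nat.card ((Q : Subgroup G).subgroupOf D) ∣ Nat.card (Q : Subgroup G) := by
      have := Subgroup.card_dvd_of_le (show ((Q : Subgroup G).subgroupOf D).map D.subtype ≤ (Q : Subgroup G) by
        rintro _ ⟨a, ha, rfl⟩; exact ha)
      rwa [Subgroup.card_map_of_injective D.subtype_injective] at this
    show (Nat.card _).Coprime ((Q : Subgroup G).relIndex D)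
    rw [hidx]
    exact hcop.coprime_dvd_left h5
  obtain ⟨K₀, hK₀⟩ := Subgroup.exists_right_complement'_of_coprime hcopD
  set K' := K₀.map D.subtype
  have hK'D : K' ≤ D := map_subtype_le _
  have hK'c : Nat.card K' = (Q : Subgroup G).index := by
    rw [Subgroup.card_map_of_injective D.subtype_injective, ← hidx]
    have h6 := hK₀.card_mul
    rw [← ((Q : Subgroup G).subgroupOf D).card_mul_index] at h6
    exact Nat.eq_of_mul_eq_mul_left Nat.card_pos h6
  have hK' : Subgroup.IsComplement' (Q : Subgroup G) K' :=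
    Subgroup.isComplement'_of_coprime (by rw [hK'c, Subgroup.card_mul_index]) (by rw [hK'c]; exact hcop)
  obtain ⟨g, hg⟩ := Cfsg.Agent.S0001.result (Q : Subgroup G) hcop (Or.inl inferInstance) K K' hK hK'
  obtain ⟨⟨⟨u, hu⟩, ⟨k, hk⟩⟩, e⟩ := (hK.existsUnique g).exists
  subst e
  replace hu : u ∈ (Q : Subgroup G) := hu
  replace hk : k ∈ K := hk
  refine ⟨u, hu, ?_, fun a ha => ?_⟩
  · exact (mul_mem (mul_mem (inv_mem hu) hw) hu : u⁻¹ * w * u ∈ (Q : Subgroup G))
  · have h7 : u * a * u⁻¹ ∈ K' := by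
      rw [← hg, Subgroup.mem_pointwise_smul_iff_inv_smul_mem]
      have : k⁻¹ * a * k ∈ K := mul_mem (mul_mem (inv_mem hk) ha) hk
      simpa [MulAut.smul_def, mul_assoc] using this
    have h8 : u * a * u⁻¹ * w = w * (u * a * u⁻¹) := (mem_cent.mp (hK'D h7)).eq
    calc a * (u⁻¹ * w * u) = u⁻¹ * (u * a * u⁻¹ * w) * u := by group
      _ = u⁻¹ * (w * (u * a * u⁻¹)) * u := by rw [h8]
      _ = u⁻¹ * w * u * a := by group

variable (hB : ∀ x : G, (∃ k : ℕ, orderOf x = q ^ k) → ∃ (r : ℕ) (a : ℕ), r.Prime ∧ (Subgroup.centralizer ({x} : Set G)).index = r ^ a)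

section
include hB

theorem prime_to_q_class_unique {x y : G} {r s i j : ℕ} (hx : ∃ k, orderOf x = q ^ k) (hy : ∃ k, orderOf y = q ^ k)
    (hr : r.Prime) (hs : s.Prime) (hrq : r ≠ q) (hsq : s ≠ q) (hxr : cs x = r ^ i) (hys : cs y = s ^ j)
    (hx1 : cs x ≠ 1) (hy1 : cs y ≠ 1) : r = s := by
  by_contra hrs
  obtain ⟨Q, hxQ, hQx⟩ := mem_center_sylow hx (dvd_index_iff_of_cop hr hrq hxr)
  obtain ⟨Q', hyQ, hQy⟩ := mem_center_sylow hy (dvd_index_iff_of_cop hs hsq hys)
  obtain ⟨g, hg⟩ := MulAction.exists_smul_eq G Q' Q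
  set y' := g * y * g⁻¹
  have hy'Q : y' ∈ (Q : Subgroup G) := by
    rw [← hg, Sylow.coe_subgroup_smul]
    exact Subgroup.smul_mem_pointwise_smul _ (MulAut.conj g) _ hyQ
  have hcm : Commute x y' := (mem_cent.mp (hQx hy'Q)).symm
  have hy'o : ∃ k, orderOf y' = q ^ k := orderOf_pow_q Q.2 hy'Q
  obtain ⟨t, c, ht, htc⟩ := hB (x * y') (mul_pow_q hx hy'o hcm)
  have hy's : cs y' = s ^ j := (cs_conj y g).trans hys
  have hy'1 : cs y' ≠ 1 := fun e => hy1 ((cs_conj y g).symm.trans e)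
  rcases eq_of_cs hr hs ht hrs hxr hy's hx1 hcm htc with h | ⟨h, -⟩
  · exact absorbed hr hs hrs hxr hy's hx1 hsq hx h
  · rw [hcm.eq] at h
    exact absorbed hs hr (Ne.symm hrs) hy's hxr hy'1 hrq hy'o h

theorem not_mixed (Q : Sylow q G) {x y : G} {r i j : ℕ} (hx : ∃ k, orderOf x = q ^ k) (hy : ∃ k, orderOf y = q ^ k)
    (hr : r.Prime) (hrq : r ≠ q) (hxr : cs x = r ^ i) (hyq : cs y = q ^ j) (hx1 : cs x ≠ 1) (hy1 : cs y ≠ 1) :
    False := by
  have hyO : y ∈ Cfsg.pCore q G := mem_pCore_of_cs hy hyq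
  have hOle : ∀ Q' : Sylow q G, Cfsg.pCore q G ≤ (Q' : Subgroup G) := fun Q' => by
    obtain ⟨R, hR⟩ := (isPGroup_pCore (G := G) q).exists_le_sylow
    obtain ⟨g, rfl⟩ := MulAction.exists_smul_eq G R Q'
    intro a ha
    rw [Sylow.coe_subgroup_smul, Subgroup.mem_pointwise_smul_iff_inv_smul_mem]
    refine hR ?_
    simpa [MulAut.smul_def] using (inferInstance : (Cfsg.pCore q G).Normal).conj_mem a ha g⁻¹
  -- every element of class size prime to q lies in the core
  have hrO : ∀ (z : G) (t l : ℕ), (∃ k, orderOf z = q ^ k) → t.Prime → t ≠ q → cs z = t ^ l → cs z ≠ 1 →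
      z ∈ Cfsg.pCore q G := by
    intro z t l hz ht htq hzl hz1
    obtain ⟨Q', hzQ, hQz⟩ := mem_center_sylow hz (dvd_index_iff_of_cop ht htq hzl)
    have hcm : Commute y z := mem_cent.mp (hQz (hOle Q' hyO))
    obtain ⟨w, c, hw, hwc⟩ := hB (y * z) (mul_pow_q hy hz hcm)
    rcases eq_of_cs (Fact.out : q.Prime) ht hw (Ne.symm htq) hyq hzl hy1 hcm hwc with h | ⟨-, h⟩
    · exact absurd h fun h => absorbed (Fact.out : q.Prime) ht (Ne.symm htq) hyq hzl hy1 htq hy h
    · subst h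
      have h1 := mem_pCore_of_cs (mul_pow_q hy hz hcm) hwc
      simpa using mul_mem (inv_mem hyO) h1
  have hQO : (Q : Subgroup G) = Cfsg.pCore q G := by
    refine le_antisymm (fun z hz => ?_) (hOle Q)
    have hzo := orderOf_pow_q Q.2 hz
    obtain ⟨t, l, ht, hzl⟩ := hB z hzo
    by_cases hz1 : cs z = 1
    · exact mem_pCore_of_cs hzo (b := 0) (by simpa using hz1)
    by_cases htq : t = q
    · exact mem_pCore_of_cs hzo (htq ▸ hzl)
    · exact hrO z t l hzo ht htq hzl hz1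
  haveI hQn : (Q : Subgroup G).Normal := hQO ▸ inferInstance
  have hcop : (Nat.card (Q : Subgroup G)).Coprime (Q : Subgroup G).index := Q.card_coprime_index
  obtain ⟨K, hK⟩ := Subgroup.exists_right_complement'_of_coprime hcop
  haveI := (Q.2).isNilpotent
  set Z := (Q : Subgroup G) ⊓ centralizer ((Q : Subgroup G) : Set G)
  set C := (Q : Subgroup G) ⊓ centralizer (K : Set G)
  -- every element is central in Q or conjugate to a fixed point of K
  have hcases : ∀ w ∈ (Q : Subgroup G), w ∈ Z ∨ ∃ u ∈ (Q : Subgroup G), u⁻¹ * w * u ∈ C := by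
    intro w hw
    have hwo := orderOf_pow_q Q.2 hw
    obtain ⟨t, l, ht, hwl⟩ := hB w hwo
    by_cases htq : t = q
    swap
    · left
      obtain ⟨Q', hwQ, hQw⟩ := mem_center_sylow hwo (dvd_index_iff_of_cop ht htq hwl)
      obtain rfl : Q' = Q := Sylow.ext (Q.3 Q'.2 (hQO.le.trans (hOle Q')))
      exact ⟨hw, fun a ha => mem_cent.mp (hQw ha)⟩
    exact Or.inr (exists_conj_complement Q hK hw (htq ▸ hwl))
  -- pass to the Frattini quotient
  let Z' := Z.subgroupOf (Q : Subgroup G)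
  let C' := C.subgroupOf (Q : Subgroup G)
  have hunion : ∀ w : (Q : Subgroup G), w ∈ Z' ⊔ frattini (Q : Subgroup G) ∨ w ∈ C' ⊔ frattini (Q : Subgroup G) := by
    rintro ⟨w, hw⟩
    rcases hcases w hw with h | ⟨u, hu, h⟩
    · exact Or.inl (le_sup_left (a := Z') h)
    · right
      have hcomm : ⁅(⟨u, hu⟩ : (Q : Subgroup G))⁻¹, (⟨w, hw⟩ : (Q : Subgroup G))⁆ ∈ frattini (Q : Subgroup G) :=
        Cfsg.Lib.PGroups.commutator_le_frattini Q.2 (Subgroup.commutator_mem_commutator (Subgroup.mem_top _) (Subgroup.mem_top _))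
      have hd : (⟨w, hw⟩ : (Q : Subgroup G)) = ⁅(⟨u, hu⟩ : (Q : Subgroup G))⁻¹, (⟨w, hw⟩ : (Q : Subgroup G))⁆⁻¹ *
          ((⟨u, hu⟩ : (Q : Subgroup G))⁻¹ * ⟨w, hw⟩ * ⟨u, hu⟩) := by
        rw [commutatorElement_def]; group
      rw [hd]
      exact mul_mem (le_sup_right (a := C') (inv_mem hcomm)) (le_sup_left (b := frattini _) (show _ ∈ C' from h))
  rcases (show Z' ⊔ frattini (Q : Subgroup G) = ⊤ ∨ C' ⊔ frattini (Q : Subgroup G) = ⊤ by
    by_contra hc
    rw [not_or] at hc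
    obtain ⟨a, -, ha⟩ := SetLike.exists_of_lt (lt_top_iff_ne_top.mpr hc.1)
    obtain ⟨b, -, hb⟩ := SetLike.exists_of_lt (lt_top_iff_ne_top.mpr hc.2)
    have ha' := (hunion a).resolve_left ha
    have hb' := (hunion b).resolve_right hb
    rcases hunion (a * b) with h | h
    · exact ha (by simpa using mul_mem h (inv_mem hb'))
    · exact hb (by simpa using mul_mem (inv_mem ha') h)) with h | h
  · have hZ := frattini_nongenerating h
    rw [Subgroup.subgroupOf_eq_top] at hZ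
    refine hy1 ?_
    have hQy : (Q : Subgroup G) ≤ centralizer ({y} : Set G) := fun a ha =>
      mem_cent.mpr ((hZ (hQO ▸ hyO)).2 a ha)
    have h9 : cs y ∣ (Q : Subgroup G).index := index_dvd_of_le hQy
    rw [hyq] at h9 ⊢
    rcases j with _ | j
    · simp
    · exact absurd ((dvd_pow_self q j.succ_ne_zero).trans h9) Q.not_dvd_index
  · have hC := frattini_nongenerating h
    rw [Subgroup.subgroupOf_eq_top] at hC
    refine hx1 ?_
    obtain ⟨Q', hxQ, hQx⟩ := mem_center_sylow hx (dvd_index_iff_of_cop hr hrq hxr)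
    obtain rfl : Q' = Q := Sylow.ext (Q.3 Q'.2 (hQO.le.trans (hOle Q')))
    have htop : centralizer ({x} : Set G) = ⊤ := by
      rw [eq_top_iff, ← hK.sup_eq_top]
      exact sup_le hQx fun a ha => mem_cent.mpr ((hC hxQ).2 a ha)
    rw [cs, htop, Subgroup.index_top]

theorem exists_prime (Q : Sylow q G) :
    ∃ p : ℕ, p.Prime ∧ ∀ x : G, (∃ k : ℕ, orderOf x = q ^ k) → ∃ a : ℕ, cs x = p ^ a := by
  by_cases h : ∃ x : G, (∃ k, orderOf x = q ^ k) ∧ ∃ r i, r.Prime ∧ r ≠ q ∧ cs x = r ^ i ∧ cs x ≠ 1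
  · obtain ⟨x, hx, r, i, hr, hrq, hxr, hx1⟩ := h
    refine ⟨r, hr, fun y hy => ?_⟩
    obtain ⟨s, j, hs, hys⟩ := hB y hy
    by_cases hy1 : cs y = 1
    · exact ⟨0, by simpa using hy1⟩
    by_cases hsq : s = q
    · exact (not_mixed hB Q hx hy hr hrq hxr (hsq ▸ hys) hx1 hy1).elim
    · exact ⟨j, (prime_to_q_class_unique hB hx hy hr hs hrq hsq hxr hys hx1 hy1) ▸ hys⟩
  · refine ⟨q, Fact.out, fun y hy => ?_⟩
    obtain ⟨s, j, hs, hys⟩ := hB y hy
    by_cases hy1 : cs y = 1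
    · exact ⟨0, by simpa using hy1⟩
    · by_contra hc
      exact h ⟨y, hy, s, j, hs, fun e => hc ⟨j, e ▸ hys⟩, hys, hy1⟩

end

theorem direct_factor (Q : Sylow q G) (hq : ∀ x : G, (∃ k : ℕ, orderOf x = q ^ k) → ∃ a : ℕ, cs x = q ^ a) :
    (Q : Subgroup G).Normal ∧ ∃ N : Subgroup G, N.Normal ∧ N.IsComplement' (Q : Subgroup G) := by
  have hQO : (Q : Subgroup G) = Cfsg.pCore q G := by
    refine le_antisymm (fun z hz => ?_) ?_
    · have hzo := orderOf_pow_q Q.2 hz
      obtain ⟨a, ha⟩ := hq z hzo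
      exact mem_pCore_of_cs hzo ha
    · obtain ⟨R, hR⟩ := (isPGroup_pCore (G := G) q).exists_le_sylow
      obtain ⟨g, rfl⟩ := MulAction.exists_smul_eq G R Q
      intro a ha
      rw [Sylow.coe_subgroup_smul, Subgroup.mem_pointwise_smul_iff_inv_smul_mem]
      refine hR ?_
      simpa [MulAut.smul_def] using (inferInstance : (Cfsg.pCore q G).Normal).conj_mem a ha g⁻¹
  haveI hQn : (Q : Subgroup G).Normal := hQO ▸ inferInstance
  refine ⟨hQn, ?_⟩
  obtain ⟨K, hK⟩ := Subgroup.exists_right_complement'_of_coprime Q.card_coprime_index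
  haveI := (Q.2).isNilpotent
  set C := (Q : Subgroup G) ⊓ centralizer (K : Set G)
  let C' := C.subgroupOf (Q : Subgroup G)
  have hC : C' ⊔ frattini (Q : Subgroup G) = ⊤ := by
    rw [eq_top_iff]
    rintro ⟨w, hw⟩ -
    obtain ⟨a, ha⟩ := hq w (orderOf_pow_q Q.2 hw)
    obtain ⟨u, hu, h⟩ := exists_conj_complement Q hK hw ha
    have hcomm : ⁅(⟨u, hu⟩ : (Q : Subgroup G))⁻¹, (⟨w, hw⟩ : (Q : Subgroup G))⁆ ∈ frattini (Q : Subgroup G) :=
      Cfsg.Lib.PGroups.commutator_le_frattini Q.2 (Subgroup.commutator_mem_commutator (Subgroup.mem_top _) (Subgroup.mem_top _))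
    have hd : (⟨w, hw⟩ : (Q : Subgroup G)) = ⁅(⟨u, hu⟩ : (Q : Subgroup G))⁻¹, (⟨w, hw⟩ : (Q : Subgroup G))⁆⁻¹ *
        ((⟨u, hu⟩ : (Q : Subgroup G))⁻¹ * ⟨w, hw⟩ * ⟨u, hu⟩) := by
      rw [commutatorElement_def]; group
    rw [hd]
    exact mul_mem (le_sup_right (a := C') (inv_mem hcomm)) (le_sup_left (b := frattini _) (show _ ∈ C' from h))
  have hCtop := frattini_nongenerating hC
  rw [Subgroup.subgroupOf_eq_top] at hCtop
  refine ⟨K, ?_, hK.symm⟩
  constructor
  intro a ha g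
  obtain ⟨⟨⟨u, hu⟩, ⟨k, hk⟩⟩, e⟩ := (hK.existsUnique g).exists
  rw [← e]
  show u * k * a * (u * k)⁻¹ ∈ K
  have h1 : k * a * k⁻¹ ∈ K := mul_mem (mul_mem hk ha) (inv_mem hk)
  have h2 : u * (k * a * k⁻¹) * u⁻¹ = k * a * k⁻¹ := by
    rw [← (hCtop hu).2 _ h1, mul_inv_cancel_right]
  rw [show u * k * a * (u * k)⁻¹ = u * (k * a * k⁻¹) * u⁻¹ by group, h2]
  exact h1

end Cfsg.Lib.QBaer
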