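import Cfsg.Agent.ClassSize.QBaer

/-!
Groups in which all `q`-elements have `p`-power class size, `p ≠ q`.
-/

set_option autoImplicit false
set_option linter.unusedSectionVars false
set_option linter.unusedVariables false
set_option linter.style.haveILetI false

open scoped commutatorElement

namespace Cfsg.Lib.QBaer

open Subgroup Cfsg Cfsg.Lib.ClassSize Cfsg.Lib.Components

universe u

variable {G : Type u} [Group G] [Finite G] {q p : ℕ} [Fact q.Prime] [Fact p.Prime]

/-- An automorphism of an abelian `q`-group of order prime to `q` fixing all elements of order `q` is trivial. -/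
theorem fix_of_fix_omega {A : Type u} [CommGroup A] (hA : IsPGroup q A) (f : A ≃* A) {m : ℕ}
    (hm : ¬ q ∣ m) (hf : ∀ x, (f : A → A)^[m] x = x) (hfix : ∀ x : A, x ^ q = 1 → f x = x) (x : A) : f x = x := by
  suffices ∀ k : ℕ, ∀ x : A, x ^ q ^ k = 1 → f x = x from (hA x).elim fun k hk => this k x hk
  intro k
  induction k with
  | zero => intro x hx; rw [pow_zero, pow_one] at hx; rw [hx, map_one]
  | succ k ih =>
    intro x hx
    have h1 : f (x ^ q) = x ^ q := ih _ (by rw [← pow_mul, ← pow_succ']; exact hx)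
    have hd : (x⁻¹ * f x) ^ q = 1 := by
      rw [mul_pow, ← map_pow, h1, inv_pow, inv_mul_cancel]
    have h2 := hfix _ hd
    have h3 : ∀ n : ℕ, (f : A → A)^[n] x = x * (x⁻¹ * f x) ^ n := by
      intro n
      induction n with
      | zero => simp
      | succ n ihn =>
        rw [Function.iterate_succ_apply', ihn, map_mul, map_pow, h2, pow_succ',
          ← mul_assoc x (x⁻¹ * f x), mul_inv_cancel_left]
    have h4 : (x⁻¹ * f x) ^ m = 1 := by
      have h5 := (h3 m).symm.trans (hf x)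
      simpa using h5
    have h6 : x⁻¹ * f x = 1 := by
      have := (pow_gcd_eq_one (a := x⁻¹ * f x)).mpr ⟨hd, h4⟩
      rwa [(Nat.Prime.coprime_iff_not_dvd Fact.out).mpr hm, pow_one] at this
    rw [inv_mul_eq_one] at h6
    exact h6.symm

/-- Automorphisms of an elementary abelian group, as linear maps. -/
def autToLin (A : Type u) [CommGroup A] [Module (ZMod q) (Additive A)] :
    MulAut A →* (Additive A ≃ₗ[ZMod q] Additive A) where
  toFun f := { MulEquiv.toAdditive f with map_smul' := fun c w => ZMod.map_smul (MulEquiv.toAdditive f) c w }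
  map_one' := LinearEquiv.ext fun w => rfl
  map_mul' f g := LinearEquiv.ext fun w => rfl

theorem autToLin_apply (A : Type u) [CommGroup A] [Module (ZMod q) (Additive A)] (f : MulAut A) (w : A) :
    autToLin (q := q) A f (Additive.ofMul w) = Additive.ofMul (f w) := rfl

theorem mulAut_iterate {A : Type u} [CommGroup A] (f : MulAut A) (n : ℕ) (x : A) :
    (f : A → A)^[n] x = (f ^ n) x := by
  induction n with
  | zero => rfl
  | succ n ih => rw [Function.iterate_succ_apply', ih, pow_succ', MulAut.mul_apply]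

theorem structure_of_ne (hpq : p ≠ q) (Q : Sylow q G)
    (hcs : ∀ x : G, (∃ k : ℕ, orderOf x = q ^ k) → ∃ a : ℕ, cs x = p ^ a) :
    IsMulCommutative (Q : Subgroup G) ∧ (Cfsg.pCore p G ⊔ (Q : Subgroup G)).Normal ∧
      ((∃ m : ℕ, (Cfsg.pCore p G).relIndex (Cfsg.pCore p G ⊔ (Q : Subgroup G)) = q ^ m) ∧
        (Cfsg.pCore p G ⊔ (Q : Subgroup G)).index.Coprime q ∧ (Nat.card (Cfsg.pCore p G)).Coprime q) ∧
      Group.IsSolvable (G ⧸ Cfsg.pPrimeCore q G) := by
  classical
  have hp : p.Prime := Fact.out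
  have hq : q.Prime := Fact.out
  set M := Cfsg.pCore p G with hMdef
  have hMp : IsPGroup p M := isPGroup_pCore p
  let π := QuotientGroup.mk' M
  have hπ : Function.Surjective π := QuotientGroup.mk'_surjective M
  set Qb : Sylow q (G ⧸ M) := Q.mapSurjective hπ with hQbdef
  have hQbmap : (Qb : Subgroup (G ⧸ M)) = (Q : Subgroup G).map π := Sylow.coe_mapSurjective hπ Q
  -- conjugates of an element of Q lie in the image of Q
  have hQbn : (Qb : Subgroup (G ⧸ M)).Normal := by
    constructor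
    intro y hy g
    rw [hQbmap] at hy
    obtain ⟨x, hx, rfl⟩ := hy
    obtain ⟨a, ha⟩ := hcs x (orderOf_pow_q Q.2 hx)
    have hcomm := Cfsg.Agent.S4364.result p x ⟨a, ha⟩
    set S : Set (G ⧸ M) := Set.range fun h : G => π (h * x * h⁻¹)
    have hSc : ∀ u ∈ S, ∀ v ∈ S, u * v = v * u := by
      rintro _ ⟨g, rfl⟩ _ ⟨h, rfl⟩
      have h1 := (QuotientGroup.eq_one_iff _).mpr (hcomm g h)
      rw [← QuotientGroup.mk'_apply, map_mul, map_mul, map_mul, map_inv, map_inv] at h1
      exact commutatorElement_eq_one_iff_mul_comm.mp h1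
    set N := closure S
    haveI hNn : N.Normal := by
      constructor
      intro n hn k
      have hmem := Subgroup.mem_map_of_mem (MulAut.conj k).toMonoidHom hn
      rw [MonoidHom.map_closure] at hmem
      refine (closure_le _).mpr ?_ hmem
      rintro _ ⟨_, ⟨h, rfl⟩, rfl⟩
      obtain ⟨k', rfl⟩ := hπ k
      refine subset_closure ⟨k' * h, ?_⟩
      show π (k' * h * x * (k' * h)⁻¹) = π k' * π (h * x * h⁻¹) * (π k')⁻¹
      simp only [map_mul, map_inv, mul_inv_rev, mul_assoc]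
    haveI hNc : IsMulCommutative N := Subgroup.isMulCommutative_closure hSc
    have hNq : IsPGroup q N := by
      rintro ⟨z, hz⟩
      obtain ⟨k, hk⟩ : ∃ k, z ^ q ^ k = 1 := by
        induction hz using closure_induction with
        | mem u hu =>
          obtain ⟨h, rfl⟩ := hu
          obtain ⟨k, hk⟩ := orderOf_pow_q Q.2 hx
          exact ⟨k, by rw [← map_pow, conj_pow, ← hk, pow_orderOf_eq_one, mul_one, mul_inv_cancel, map_one]⟩
        | one => exact ⟨0, one_pow _⟩
        | mul u v hu hv h1 h2 =>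
          obtain ⟨i, hi⟩ := h1
          obtain ⟨j, hj⟩ := h2
          refine ⟨i + j, ?_⟩
          have hc : Commute u v := congrArg Subtype.val (hNc.is_comm.comm (⟨u, hu⟩ : N) ⟨v, hv⟩)
          rw [hc.mul_pow, pow_add, pow_mul, hi, one_pow, one_mul, mul_comm, pow_mul, hj, one_pow]
        | inv u hu h1 =>
          obtain ⟨i, hi⟩ := h1
          exact ⟨i, by rw [inv_pow, hi, inv_one]⟩
      exact ⟨k, Subtype.ext hk⟩
    obtain ⟨R, hR⟩ := hNq.exists_le_sylow
    obtain ⟨u, hu⟩ := MulAction.exists_smul_eq (G ⧸ M) R Qb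
    have hNQ : N ≤ (Qb : Subgroup (G ⧸ M)) := by
      intro n hn
      rw [← hu, Sylow.coe_subgroup_smul, Subgroup.mem_pointwise_smul_iff_inv_smul_mem]
      refine hR ?_
      have := hNn.conj_mem n hn u⁻¹
      rw [inv_inv] at this
      simpa [MulAut.smul_def] using this
    obtain ⟨g', rfl⟩ := hπ g
    exact hNQ (subset_closure ⟨g', by simp⟩)
  haveI := hQbn
  have hL : M ⊔ (Q : Subgroup G) = (Qb : Subgroup (G ⧸ M)).comap π := by
    rw [hQbmap, Subgroup.comap_map_eq, QuotientGroup.ker_mk', sup_comm]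
  have hdisj : M ⊓ (Q : Subgroup G) = ⊥ := by
    refine disjoint_iff.mp (IsPGroup.disjoint_of_ne p q hpq M (Q : Subgroup G) hMp Q.2)
  -- Q is abelian
  have hQcomm : ∀ a ∈ (Q : Subgroup G), ∀ b ∈ (Q : Subgroup G), a * b = b * a := by
    intro x hx y hy
    have hxo := orderOf_pow_q Q.2 hx
    obtain ⟨a, ha⟩ := hcs x hxo
    obtain ⟨Q', -, hQ'⟩ := mem_center_sylow hxo (dvd_index_iff_of_cop hp hpq ha)
    obtain ⟨u, hu⟩ := MulAction.exists_smul_eq G Q Q'
    have hy' : π u * π y * (π u)⁻¹ ∈ (Qb : Subgroup (G ⧸ M)) := hQbn.conj_mem _ (hQbmap ▸ mem_map_of_mem π hy) _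
    have hmap : (Qb : Subgroup (G ⧸ M)) ≤ (Q' : Subgroup G).map π := by
      intro z hz
      have hz' : (π u)⁻¹ * z * π u ∈ (Qb : Subgroup (G ⧸ M)) := by
        have := hQbn.conj_mem z hz (π u)⁻¹
        rwa [inv_inv] at this
      rw [hQbmap] at hz'
      obtain ⟨w, hw, he⟩ := hz'
      refine ⟨u * w * u⁻¹, ?_, ?_⟩
      · rw [SetLike.mem_coe, ← hu, Sylow.coe_subgroup_smul]
        exact Subgroup.smul_mem_pointwise_smul _ (MulAut.conj u) _ hw
      · rw [map_mul, map_mul, map_inv, he]; group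
    obtain ⟨y', hy'Q, hye⟩ := hmap (hQbmap ▸ mem_map_of_mem π hy)
    have hc : Commute y' x := mem_cent.mp (hQ' hy'Q)
    have h1 : ⁅x, y⁆ ∈ M ⊓ (Q : Subgroup G) := by
      refine ⟨(QuotientGroup.eq_one_iff _).mp ?_, ?_⟩
      · show π ⁅x, y⁆ = 1
        rw [map_commutatorElement, ← hye, ← map_commutatorElement, commutatorElement_eq_one_iff_mul_comm.mpr hc.symm.eq,
          map_one]
      · rw [commutatorElement_def]
        exact mul_mem (mul_mem (mul_mem hx hy) (inv_mem hx : _ ∈ (Q : Subgroup G))) (inv_mem hy : _ ∈ (Q : Subgroup G))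
    rw [hdisj, mem_bot] at h1
    exact commutatorElement_eq_one_iff_mul_comm.mp h1
  refine ⟨⟨⟨fun a b => Subtype.ext (hQcomm a a.2 b b.2)⟩⟩, hL ▸ inferInstance, ⟨?_, ?_, ?_⟩, ?_⟩
  · obtain ⟨m, hm⟩ := IsPGroup.iff_card.mp Q.2
    refine ⟨m, ?_⟩
    rw [Subgroup.relIndex_sup_left, ← hm, ← Subgroup.inf_relIndex_right, hdisj, Subgroup.relIndex_bot_left]
  · exact Nat.Coprime.coprime_dvd_left (Subgroup.index_dvd_of_le le_sup_right)
      ((Nat.Prime.coprime_iff_not_dvd hq).mpr Q.not_dvd_index).symm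
  · obtain ⟨m, hm⟩ := IsPGroup.iff_card.mp hMp
    rw [hm]
    exact Nat.Coprime.pow_left _ ((Nat.coprime_primes hp hq).mpr hpq)
  -- the action on the elements of order q
  have hQbc : ∀ a ∈ (Qb : Subgroup (G ⧸ M)), ∀ b ∈ (Qb : Subgroup (G ⧸ M)), a * b = b * a := by
    intro a ha b hb
    rw [hQbmap] at ha hb
    obtain ⟨a, ha, rfl⟩ := ha
    obtain ⟨b, hb, rfl⟩ := hb
    rw [← map_mul, ← map_mul, hQcomm a ha b hb]
  let Om : Subgroup (G ⧸ M) :=
    { carrier := {x | x ∈ (Qb : Subgroup (G ⧸ M)) ∧ x ^ q = 1}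
      one_mem' := ⟨one_mem _, one_pow q⟩
      mul_mem' := fun {a b} ha hb => ⟨mul_mem ha.1 hb.1, by
        have hc : Commute a b := hQbc a ha.1 b hb.1
        rw [hc.mul_pow, ha.2, hb.2, one_mul]⟩
      inv_mem' := fun {a} ha => ⟨inv_mem ha.1, by rw [inv_pow, ha.2, inv_one]⟩ }
  haveI hOmn : Om.Normal := ⟨fun x hx g => ⟨hQbn.conj_mem x hx.1 g, by rw [conj_pow, hx.2, mul_one, mul_inv_cancel]⟩⟩
  letI : CommGroup Om := { (inferInstance : Group Om) with mul_comm := fun a b => Subtype.ext (hQbc a a.2.1 b b.2.1) }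
  have hexp : ∀ x : Om, x ^ q = 1 := fun x => Subtype.ext (by rw [Subgroup.coe_pow, x.2.2, Subgroup.coe_one])
  haveI : Module (ZMod q) (Additive Om) := AddCommGroup.zmodModule fun x => hexp x.toMul
  let ρ : G →* (Additive Om ≃ₗ[ZMod q] Additive Om) :=
    (autToLin Om).comp ((MulAut.conjNormal (H := Om)).comp π)
  have hρ : ∀ (g : G) (w : Om), ρ g (Additive.ofMul w) = Additive.ofMul w ↔ π g * (w : G ⧸ M) = w * π g := by
    intro g w
    rw [MonoidHom.comp_apply, MonoidHom.comp_apply, autToLin_apply, Equiv.apply_eq_iff_eq, Subtype.ext_iff, MulAut.conjNormal_apply, mul_inv_eq_iff_eq_mul]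
  set W := ρ.ker
  have hQW : (Q : Subgroup G) ≤ W := by
    intro x hx
    refine MonoidHom.mem_ker.mpr (LinearEquiv.ext fun w => ?_)
    show ρ x (Additive.ofMul w.toMul) = Additive.ofMul w.toMul
    exact (hρ x w.toMul).mpr (hQbc _ (hQbmap ▸ mem_map_of_mem π hx) _ w.toMul.2.1)
  have hcop : ¬ q ∣ Nat.card (G ⧸ W) := fun h =>
    Q.not_dvd_index (h.trans (Subgroup.index_dvd_of_le hQW))
  have hH : Group.IsSolvable (G ⧸ W) := by
    refine Cfsg.Lib.OrbitPPower.solvable_of_orbits (p := p) (QuotientGroup.kerLift ρ) (QuotientGroup.kerLift_injective ρ) ?_ hcop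
    intro w
    obtain ⟨x, hx, he⟩ : ∃ x ∈ (Q : Subgroup G), π x = ((w.toMul : Om) : G ⧸ M) := by
      have := (w.toMul : Om).2.1
      rwa [hQbmap] at this
    obtain ⟨a, ha⟩ := hcs x (orderOf_pow_q Q.2 hx)
    have h1 : (Cfsg.Lib.HalfTrans.St (QuotientGroup.kerLift ρ) w).index ∣ p ^ a := by
      rw [← Subgroup.index_comap_of_surjective _ (QuotientGroup.mk'_surjective W), ← ha]
      refine Subgroup.index_dvd_of_le fun g hg => ?_
      show ρ g (Additive.ofMul w.toMul) = Additive.ofMul w.toMul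
      rw [hρ, ← he, ← map_mul, ← map_mul, (mem_cent.mp hg).eq]
    exact ((Nat.dvd_prime_pow hp).mp h1).imp fun b hb => hb.2
  -- the kernel
  set O := Cfsg.pPrimeCore q G
  haveI : W.Normal := inferInstance
  set Wb := W.map π
  haveI : Wb.Normal := (inferInstance : W.Normal).map π hπ
  have hQbW : (Qb : Subgroup (G ⧸ M)) ≤ Wb := hQbmap ▸ map_mono hQW
  have hcen : ∀ g ∈ Wb, ∀ y ∈ (Qb : Subgroup (G ⧸ M)), g * y = y * g := by
    intro g hg y hy
    obtain ⟨t, m, hm, hnm⟩ := Nat.exists_eq_pow_mul_and_not_dvd (orderOf_pos g).ne' q hq.ne_one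
    -- the part of order a power of q lies in Qb
    have hgq : g ^ m ∈ (Qb : Subgroup (G ⧸ M)) := by
      obtain ⟨R, hR⟩ := (isPGroup_zpowers (G := G ⧸ M) (x := g ^ m) ⟨t, by
        rw [orderOf_pow_of_dvd (by rintro rfl; exact hm (dvd_zero q)) ⟨q ^ t, by rw [hnm, mul_comm]⟩, hnm,
          Nat.mul_div_cancel _ (Nat.pos_of_ne_zero (by rintro rfl; exact hm (dvd_zero q)))]⟩).exists_le_sylow
      obtain ⟨u, hu⟩ := MulAction.exists_smul_eq (G ⧸ M) Qb R
      have := hR (mem_zpowers _)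
      rw [← hu, Sylow.coe_subgroup_smul, Subgroup.Normal.conj_smul_eq_self] at this
      exact this
    have hgr : (g ^ q ^ t) * y = y * (g ^ q ^ t) := by
      letI : CommGroup (Qb : Subgroup (G ⧸ M)) :=
        { (inferInstance : Group (Qb : Subgroup (G ⧸ M))) with mul_comm := fun a b => Subtype.ext (hQbc a a.2 b b.2) }
      have h1 := fix_of_fix_omega (q := q) Qb.2 (MulAut.conjNormal (H := (Qb : Subgroup (G ⧸ M))) (g ^ q ^ t)) hm
        (fun z => by
          rw [mulAut_iterate, ← map_pow, ← pow_mul, ← hnm, pow_orderOf_eq_one, map_one]; rfl)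
        (fun z hz => by
          obtain ⟨w, hw, hwg⟩ := pow_mem hg (q ^ t)
          apply Subtype.ext
          rw [MulAut.conjNormal_apply, ← hwg, mul_inv_eq_iff_eq_mul]
          exact (hρ w ⟨z, z.2, congrArg Subtype.val hz⟩).mp (LinearEquiv.congr_fun (MonoidHom.mem_ker.mp hw) _))
        ⟨y, hy⟩
      have h2 := congrArg Subtype.val h1
      rw [MulAut.conjNormal_apply, mul_inv_eq_iff_eq_mul] at h2
      exact h2
    -- g is a product of powers of these
    have hcm : (q ^ t).Coprime m := Nat.Coprime.pow_left t ((Nat.Prime.coprime_iff_not_dvd hq).mpr hm)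
    have hg' : g ∈ Subgroup.zpowers (g ^ q ^ t) ⊔ Subgroup.zpowers (g ^ m) := by
      have hb := Nat.gcd_eq_gcd_ab (q ^ t) m
      rw [hcm.gcd_eq_one] at hb
      have h2 : (g ^ q ^ t) ^ Nat.gcdA (q ^ t) m * (g ^ m) ^ Nat.gcdB (q ^ t) m = g := by
        rw [← zpow_natCast g, ← zpow_natCast g, ← zpow_mul, ← zpow_mul, ← zpow_add, ← hb, Nat.cast_one, zpow_one]
      have h3 := Subgroup.mul_mem_sup (zpow_mem (Subgroup.mem_zpowers (g ^ q ^ t)) (Nat.gcdA (q ^ t) m))
        (zpow_mem (Subgroup.mem_zpowers (g ^ m)) (Nat.gcdB (q ^ t) m))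
      rwa [h2] at h3
    have hle : Subgroup.zpowers (g ^ q ^ t) ⊔ Subgroup.zpowers (g ^ m) ≤ centralizer ({y} : Set (G ⧸ M)) :=
      sup_le (zpowers_le.mpr (mem_cent.mpr hgr)) (zpowers_le.mpr (mem_cent.mpr (hQbc _ hgq _ hy)))
    exact (mem_cent.mp (hle hg')).eq
  set Qw := (Qb : Subgroup (G ⧸ M)).subgroupOf Wb
  have hQwcard : Nat.card Qw = Nat.card (Qb : Subgroup (G ⧸ M)) := Nat.card_congr (Subgroup.subgroupOfEquivOfLe hQbW).toEquiv
  have hcopW : (Nat.card Qw).Coprime Qw.index := by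
    rw [hQwcard]
    refine Qb.card_coprime_index.coprime_dvd_right ?_
    exact Subgroup.relIndex_dvd_index_of_normal _ _
  obtain ⟨Xw, hXw⟩ := Subgroup.exists_right_complement'_of_coprime hcopW
  have hXc : Nat.card Xw = Qw.index := by
    have h6 := hXw.card_mul_card
    rw [← Qw.card_mul_index] at h6
    exact Nat.eq_of_mul_eq_mul_left Nat.card_pos h6
  haveI hXn : Xw.Normal := by
    constructor
    intro a ha g
    obtain ⟨⟨⟨u, hu⟩, ⟨k, hk⟩⟩, e⟩ := (hXw.existsUnique g).exists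
    replace hu : u ∈ Qw := hu
    replace hk : k ∈ Xw := hk
    rw [← e]
    show u * k * a * (u * k)⁻¹ ∈ Xw
    have h1 : k * a * k⁻¹ ∈ Xw := mul_mem (mul_mem hk ha) (inv_mem hk)
    have h2 : u * (k * a * k⁻¹) * u⁻¹ = k * a * k⁻¹ := by
      apply Subtype.ext
      have h3 := hcen _ (k * a * k⁻¹).2 (u : G ⧸ M) hu
      simp only [Subgroup.coe_mul, Subgroup.coe_inv] at h3 ⊢
      rw [← h3, mul_inv_cancel_right]
    rw [show u * k * a * (u * k)⁻¹ = u * (k * a * k⁻¹) * u⁻¹ by group, h2]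
    exact h1
  set Xb := Xw.map Wb.subtype
  have hXcop : ¬ q ∣ Nat.card Xw := by
    rw [hXc]
    exact fun h => Qb.not_dvd_index (h.trans (Subgroup.relIndex_dvd_index_of_normal _ _))
  haveI hXbn : Xb.Normal := by
    constructor
    rintro _ ⟨a, ha, rfl⟩ g
    have hmem : g * (a : G ⧸ M) * g⁻¹ ∈ Wb := (inferInstance : Wb.Normal).conj_mem _ a.2 g
    refine ⟨⟨_, hmem⟩, ?_, rfl⟩
    set b : Wb := ⟨_, hmem⟩
    have hbo : orderOf b ∣ Nat.card Xw := by
      rw [← Subgroup.orderOf_coe, show ((b : Wb) : G ⧸ M) = MulAut.conj g (a : G ⧸ M) from rfl, MulEquiv.orderOf_eq,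
        Subgroup.orderOf_coe]
      exact Subgroup.orderOf_dvd_natCard Xw ha
    have hidx : Xw.index = Nat.card Qw := by
      have h6 := hXw.card_mul_card
      rw [← Xw.card_mul_index, mul_comm] at h6
      exact (Nat.eq_of_mul_eq_mul_left Nat.card_pos h6).symm
    rw [SetLike.mem_coe, ← QuotientGroup.eq_one_iff, ← orderOf_eq_one_iff]
    refine Nat.eq_one_of_dvd_coprimes (hXc ▸ hcopW.symm) ((orderOf_map_dvd (QuotientGroup.mk' Xw) b).trans hbo) ?_
    rw [← hidx]
    exact orderOf_dvd_natCard _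
  set X := Xb.comap π
  have hXcard : Nat.card X = Nat.card M * Nat.card Xw := by
    have h1 : M.relIndex X * Nat.card M = Nat.card X := by
      rw [mul_comm, ← Subgroup.relIndex_bot_left M, ← Subgroup.relIndex_bot_left X]
      exact Subgroup.relIndex_mul_relIndex ⊥ M X bot_le (fun m hm => by
        show π m ∈ Xb
        rw [show π m = 1 from (QuotientGroup.eq_one_iff m).mpr hm]; exact one_mem _)
    have h2 : M.relIndex X = Nat.card Xb := by
      conv_lhs => rw [← QuotientGroup.ker_mk' M, ← MonoidHom.comap_bot, Subgroup.relIndex_comap,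
        Subgroup.map_comap_eq_self_of_surjective hπ, Subgroup.relIndex_bot_left]
    rw [← h1, h2, Subgroup.card_map_of_injective Wb.subtype_injective]; exact mul_comm _ _
  haveI : X.Normal := hXbn.comap π
  have hXO : X ≤ O := le_pPrimeCore (by
    rw [hXcard]
    obtain ⟨m, hm⟩ := IsPGroup.iff_card.mp hMp
    rw [hm]
    exact Nat.Coprime.mul_left (Nat.Coprime.pow_left _ ((Nat.coprime_primes hp hq).mpr hpq))
      ((Nat.Prime.coprime_iff_not_dvd hq).mpr hXcop).symm)
  have hWle : W ≤ O ⊔ (Q : Subgroup G) := by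
    intro g hg
    obtain ⟨⟨⟨u, hu⟩, ⟨k, hk⟩⟩, e⟩ := (hXw.existsUnique (⟨π g, mem_map_of_mem π hg⟩ : Wb)).exists
    replace hu : (u : G ⧸ M) ∈ (Qb : Subgroup (G ⧸ M)) := hu
    replace hk : k ∈ Xw := hk
    rw [hQbmap] at hu
    obtain ⟨a, ha, hau⟩ := hu
    have h1 : a⁻¹ * g ∈ X := by
      show π (a⁻¹ * g) ∈ Xb
      refine ⟨k, hk, ?_⟩
      have h2 : (u : G ⧸ M) * (k : G ⧸ M) = π g := congrArg Subtype.val e
      rw [map_mul, map_inv, hau, ← h2]
      exact (inv_mul_cancel_left _ _).symm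
    have h3 := mul_mem (le_sup_right (a := O) ha) (le_sup_left (b := (Q : Subgroup G)) (hXO h1))
    rwa [mul_inv_cancel_left] at h3
  -- assemble
  haveI := hH
  let η := QuotientGroup.mk' O
  haveI : (W.map η).Normal := (inferInstance : W.Normal).map η (QuotientGroup.mk'_surjective O)
  have hWs : Group.IsSolvable (W.map η) := by
    have hpg : IsPGroup q (W.map η) := by
      refine (Q.2.map η).to_le ?_
      refine (map_mono hWle).trans ?_
      rw [Subgroup.map_sup, show O.map η = ⊥ by rw [Subgroup.map_eq_bot_iff, QuotientGroup.ker_mk'], bot_sup_eq]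
    haveI := hpg.isNilpotent
    infer_instance
  have hQs : Group.IsSolvable ((G ⧸ O) ⧸ W.map η) := by
    let f : G ⧸ W →* (G ⧸ O) ⧸ W.map η := QuotientGroup.lift W ((QuotientGroup.mk' (W.map η)).comp η) fun w hw => by
      rw [MonoidHom.mem_ker, MonoidHom.comp_apply, ← MonoidHom.mem_ker, QuotientGroup.ker_mk']
      exact mem_map_of_mem η hw
    refine Group.isSolvable_of_surjective (f := f) ?_
    intro z
    obtain ⟨z, rfl⟩ := QuotientGroup.mk'_surjective (W.map η) z
    obtain ⟨z, rfl⟩ := QuotientGroup.mk'_surjective O z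
    exact ⟨QuotientGroup.mk' W z, rfl⟩
  exact Group.isSolvable_of_ker_le_range (W.map η).subtype (QuotientGroup.mk' (W.map η))
    (by rw [QuotientGroup.ker_mk', Subgroup.range_subtype])

end Cfsg.Lib.QBaer
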