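import Mathlib
import Cfsg.Prelude.Def_Solvable
import Cfsg.Agent.ClassSize.AbelianCase
import Cfsg.Agent.Frobenius.Kernel

/-!
# Two coprime largest class sizes: the quotient by the centre is a Frobenius group
-/

set_option autoImplicit false
set_option linter.unusedSectionVars false
set_option linter.style.haveILetI false

namespace Cfsg.Lib.ClassSize.Top

open Subgroup
open scoped Pointwise

universe u

variable {G : Type u} [Group G] [Finite G] {m n : ℕ} (hT : Top G m n)
include hT

theorem cent_eq {y : G} (hy : cs y = m) {b : G} (hb : b ∈ centralizer ({y} : Set G))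
    (hbc : b ∉ center G) : centralizer ({b} : Set G) = centralizer ({y} : Set G) := by
  have hcomm := hT.cent_comm hy
  refine le_antisymm ?_ fun c hc => mem_cent.mpr (hcomm c hc b hb)
  obtain ⟨y₀, q, hy₀, hyC⟩ := hT.exists_yElt hy
  obtain ⟨w, hwb, r, hr, hwo, hwc⟩ : ∃ w ∈ zpowers b, ∃ r : ℕ, r.Prime ∧
      (∃ k, orderOf w = r ^ k) ∧ w ∉ center G := by
    by_contra h
    push Not at h
    exact hbc (mem_of_parts fun r hr w hw hwo => h w hw r hr hwo)
  have hwy : w ∈ centralizer ({y₀} : Set G) := hyC ▸ zpowers_le.mpr hb hwb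
  obtain ⟨-, hC⟩ := hT.cent_eq_of_part hy₀ hr hwo
    (fun c hc => mem_cent.mpr (hcomm c (hyC ▸ hc) w (hyC ▸ hwy))) hwc
  rw [← hyC, hC]
  exact cent_le_of_mem_zpowers hwb

theorem eq_of_center_commutator {y : G} (hy : cs y = m) {g b : G} (hb : b ∈ centralizer ({y} : Set G))
    {r : ℕ} (hr : r.Prime) (hgo : ∃ k, orderOf g = r ^ k) (hrn : ¬ r ∣ n)
    (h : b⁻¹ * (g * b * g⁻¹) ∈ center G) : Commute g b := by
  set ζ := b⁻¹ * (g * b * g⁻¹) with hζ
  have hconj : g * b * g⁻¹ = b * ζ := (mul_inv_cancel_left _ _).symm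
  have hbζ : Commute b ζ := Subgroup.mem_center_iff.mp h b
  have h2 : ∀ k : ℕ, g ^ k * b * (g ^ k)⁻¹ = b * ζ ^ k := by
    intro k
    induction k with
    | zero => simp
    | succ k ih =>
      have hce : Commute g (ζ ^ k) := Subgroup.mem_center_iff.mp (pow_mem h k) g
      calc g ^ (k + 1) * b * (g ^ (k + 1))⁻¹ = g * (g ^ k * b * (g ^ k)⁻¹) * g⁻¹ := by
            rw [pow_succ']; group
        _ = g * b * (ζ ^ k * g⁻¹) := by rw [ih]; group
        _ = g * b * (g⁻¹ * ζ ^ k) := by rw [hce.inv_left.eq]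
        _ = b * ζ ^ (k + 1) := by rw [← mul_assoc, hconj, pow_succ', mul_assoc]
  obtain ⟨k, hk⟩ := hgo
  have hz1 : ζ ^ r ^ k = 1 := by
    have h3 := h2 (r ^ k)
    rw [← hk, pow_orderOf_eq_one, one_mul, inv_one, mul_one] at h3
    rw [← hk]
    exact left_eq_mul.mp h3
  have hbn : b ^ n ∈ center G := by
    have h0 := hT.relIndex_center_cent hy (mul_comm n m) (lt_trans zero_lt_one hT.m_one_lt)
    have h1 := ((center G).subgroupOf (centralizer ({y} : Set G))).pow_index_mem ⟨b, hb⟩
    rw [← relIndex, h0] at h1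
    exact mem_subgroupOf.mp h1
  have hz2 : ζ ^ n = 1 := by
    have h3 : (g * b * g⁻¹) ^ n = b ^ n := by
      rw [conj_pow, Subgroup.mem_center_iff.mp hbn g, mul_inv_cancel_right]
    rw [hconj, hbζ.mul_pow, mul_eq_left] at h3
    exact h3
  have h4 := pow_gcd_eq_one.mpr ⟨hz1, hz2⟩
  rw [Nat.Coprime.gcd_eq_one (Nat.Coprime.pow_left k (hr.coprime_iff_not_dvd.mpr hrn)), pow_one]
    at h4
  rw [h4, mul_one, mul_inv_eq_iff_eq_mul] at hconj
  exact hconj

/-- The centraliser of an element of largest class size is self-normalising. -/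
theorem mem_of_normalizes {y : G} (hy : cs y = m) {g : G}
    (hg : g ∈ normalizer (centralizer ({y} : Set G) : Set G)) :
    g ∈ centralizer ({y} : Set G) := by
  classical
  set B := centralizer ({y} : Set G) with hB
  refine mem_of_parts fun r hr v hv hvo => ?_
  have hvN : v ∈ normalizer (B : Set G) := zpowers_le.mpr hg hv
  by_cases hrm : r ∣ m
  swap
  · have hd : B.relIndex (normalizer (B : Set G)) ∣ m := by
      rw [← (show B.index = m from hy)]
      exact Dvd.intro _ (relIndex_mul_index le_normalizer)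
    have hv' : v ^ B.relIndex (normalizer (B : Set G)) ∈ B :=
      mem_subgroupOf.mp ((B.subgroupOf (normalizer (B : Set G))).pow_index_mem ⟨v, hvN⟩)
    obtain ⟨k, hk⟩ := hvo
    obtain ⟨l, hl⟩ := exists_pow_eq_self_of_coprime (x := v)
      (n := B.relIndex (normalizer (B : Set G)))
      (by rw [hk]; exact ((Nat.Coprime.pow_left k
        (hr.coprime_iff_not_dvd.mpr fun h => hrm (h.trans hd)))).symm)
    rw [← hl]
    exact B.pow_mem hv' l
  by_contra hvB
  have hrn : ¬ r ∣ n := fun h => hr.ne_one (Nat.eq_one_of_dvd_coprimes hT.cop hrm h)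
  have hne : cs v ≠ m := fun h => hrn (hT.q_dvd_n ⟨h, hr, hvo⟩)
  have hle : cs v ≤ n := hT.le' _ (lt_of_le_of_ne (hT.le _) hne)
  have hfree : ∀ b ∈ B, Commute v b → b ∈ center G := fun b hb hvb => by
    by_contra hbc
    exact hvB (by rw [hB, ← hT.cent_eq hy hb hbc]; exact mem_cent.mpr hvb)
  have hnorm : ∀ b ∈ B, v * b * v⁻¹ ∈ B := fun b hb => (mem_normalizer_iff.mp hvN b).mp hb
  obtain ⟨x', hx'⟩ := hT.exn
  obtain ⟨x, hxr, -⟩ := hT.exists_reduced hx'
  obtain ⟨-, hLn⟩ := Top.normalClosure_props hxr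
  set L := normalClosure ({x} : Set G) with hL
  obtain ⟨y₀, q, hy₀, hyC⟩ := hT.exists_yElt hy
  have hLB : ∀ a ∈ L, a ∈ B → a ∈ center G := fun a ha hab => by
    refine mem_of_parts fun r' hr' w hw hwo => ?_
    by_cases hd : r' ∣ n
    · obtain ⟨k, hk⟩ := hwo
      rcases k with _ | k
      · rw [pow_zero, orderOf_eq_one_iff] at hk; rw [hk]; exact one_mem _
      · exact absurd (Nat.eq_one_of_dvd_coprimes
          (hLn.coprime_dvd_left (L.orderOf_dvd_natCard (zpowers_le.mpr ha hw)))
          (hk ▸ dvd_pow_self r' k.succ_ne_zero) hd) hr'.ne_one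
    · exact hT.central_of_not_dvd hy₀ (hyC ▸ zpowers_le.mpr hab hw) hr' hwo hd
  have hxn := hxr.1
  by_cases hall : ∀ l ∈ L, Commute v l
  · -- then all of `B` is central
    have hBZ : ∀ b ∈ B, b ∈ center G := by
      intro b hb
      refine hfree b hb (hT.eq_of_center_commutator hy hb hr hvo hrn ?_)
      have hvx : Commute v x := hall x (subset_normalClosure rfl)
      have hvxb : Commute v (b * x * b⁻¹) := hall _
        ((inferInstance : L.Normal).conj_mem x (subset_normalClosure rfl) b)
      have h1 : Commute (b⁻¹ * v * b) x := by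
        have := hvxb.map (MulAut.conj b⁻¹).toMonoidHom
        simp only [MulEquiv.coe_toMonoidHom, MulAut.conj_apply, inv_inv] at this
        rwa [show b⁻¹ * (b * x * b⁻¹) * b = x by group] at this
      have hA : b⁻¹ * (v * b * v⁻¹) ∈ centralizer ({x} : Set G) := by
        have e : b⁻¹ * (v * b * v⁻¹) = b⁻¹ * v * b * v⁻¹ := by group
        rw [e]
        exact mem_cent.mpr (h1.mul_left hvx.inv_left)
      rw [← hT.inter hxn hy]
      exact ⟨hA, B.mul_mem (B.inv_mem hb) (hnorm b hb)⟩
    have : y ∈ center G := hBZ y (mem_cent.mpr (Commute.refl y))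
    have := cs_eq_one_iff.mpr this
    have := hT.m_one_lt
    omega
  · push Not at hall
    obtain ⟨l, hl, hlv⟩ := hall
    let f : Option (B ⧸ (center G).subgroupOf B) → cls v := fun o =>
      match o with
      | none => ⟨l * v * l⁻¹, l, rfl⟩
      | some p => ⟨((p.out : B) : G) * v * ((p.out : B) : G)⁻¹, _, rfl⟩
    have hsome : ∀ p p' : B ⧸ (center G).subgroupOf B,
        ((p.out : B) : G) * v * ((p.out : B) : G)⁻¹ = ((p'.out : B) : G) * v * ((p'.out : B) : G)⁻¹ →
        p = p' := by
      intro p p' h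
      rw [← Quotient.out_eq' p, ← Quotient.out_eq' p']
      refine Quotient.sound' (QuotientGroup.leftRel_apply.mpr ?_)
      rw [mem_subgroupOf, coe_mul, coe_inv]
      exact hfree _ (B.mul_mem (B.inv_mem (p.out : B).2) (p'.out : B).2)
        (mem_cent.mp (conj_eq_iff.mp h)).symm
    have hnone : ∀ b ∈ B, l * v * l⁻¹ ≠ b * v * b⁻¹ := by
      intro b hb h
      have hc : b * v * b⁻¹ * v⁻¹ = l * v * l⁻¹ * v⁻¹ := by rw [h]
      have hcL : l * v * l⁻¹ * v⁻¹ ∈ L := by
        have := L.mul_mem hl ((inferInstance : L.Normal).conj_mem _ (L.inv_mem hl) v)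
        simpa [mul_assoc] using this
      have hcB : b * v * b⁻¹ * v⁻¹ ∈ B := by
        have := B.mul_mem hb (hnorm _ (B.inv_mem hb))
        simpa [mul_assoc] using this
      have hZ : b * v * b⁻¹ * v⁻¹ ∈ center G := hLB _ (hc ▸ hcL) hcB
      have hvb : Commute v b := by
        refine hT.eq_of_center_commutator hy hb hr hvo hrn ?_
        have e1 : b⁻¹ * (v * b * v⁻¹) = b⁻¹ * (b * v * b⁻¹ * v⁻¹)⁻¹ * b⁻¹⁻¹ := by group
        rw [e1]
        exact (inferInstance : (center G).Normal).conj_mem _ (inv_mem hZ) _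
      have h2 : b * v * b⁻¹ = v := by rw [← hvb.eq, mul_inv_cancel_right]
      rw [h2] at h
      exact hlv (mul_inv_eq_iff_eq_mul.mp h).symm
    have hcard : n + 1 ≤ cs v := by
      rw [← card_cls, ← hT.relIndex_center_cent hy (mul_comm n m)
        (lt_trans zero_lt_one hT.m_one_lt), ← hB, relIndex, Subgroup.index,
        ← Finite.card_option]
      refine Nat.card_le_card_of_injective f ?_
      rintro (_ | p) (_ | p') h
      · rfl
      · exact absurd (congrArg Subtype.val h) (hnone _ (p'.out : B).2)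
      · exact absurd (congrArg Subtype.val h).symm (hnone _ (p.out : B).2)
      · exact congrArg some (hsome p p' (congrArg Subtype.val h))
    omega

theorem mem_of_conj_mem {y : G} (hy : cs y = m) {g b : G} (hb : b ∈ centralizer ({y} : Set G))
    (hbc : b ∉ center G) (hgb : g * b * g⁻¹ ∈ centralizer ({y} : Set G)) :
    g ∈ centralizer ({y} : Set G) := by
  refine hT.mem_of_normalizes hy (mem_normalizer_iff_map_conj_eq.mpr ?_)
  have hgc : g * b * g⁻¹ ∉ center G := fun h => hbc (by
    have := (inferInstance : (center G).Normal).conj_mem _ h g⁻¹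
    simpa [mul_assoc] using this)
  have h1 := hT.cent_eq hy hgb hgc
  rw [cent_conj, hT.cent_eq hy hb hbc] at h1
  exact h1

theorem cent_inter_conj {x y : G} (hx : cs x = n) (hy : cs y = m) {h c : G}
    (hcx : c ∈ centralizer ({x} : Set G)) (hcy : h⁻¹ * c * h ∈ centralizer ({y} : Set G)) :
    c ∈ center G := by
  have hyh : cs (h * y * h⁻¹) = m := (cs_conj y h).trans hy
  rw [← hT.inter hx hyh]
  refine ⟨hcx, ?_⟩
  rw [cent_conj]
  exact ⟨h⁻¹ * c * h, hcy, by simp [mul_assoc]⟩

/-- The main theorem. -/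
theorem quasi_frobenius {x y : G} (hx : cs x = n) (hy : cs y = m) :
    IsMulCommutative (centralizer ({x} : Set G)) ∧ IsMulCommutative (centralizer ({y} : Set G)) ∧
    Cfsg.IsFrobeniusComplement
      ((centralizer ({y} : Set G)).map (QuotientGroup.mk' (center G))) ∧
    Cfsg.frobeniusKernel ((centralizer ({y} : Set G)).map (QuotientGroup.mk' (center G))) =
      ((centralizer ({x} : Set G)).map (QuotientGroup.mk' (center G)) : Set (G ⧸ center G)) := by
  classical
  set A := centralizer ({x} : Set G) with hA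
  set B := centralizer ({y} : Set G) with hB
  set Z := center G with hZdef
  set π := QuotientGroup.mk' Z with hπ
  have hZA : Z ≤ A := center_le_centralizer _
  have hZB : Z ≤ B := center_le_centralizer _
  have hmem : ∀ {g : G} {h : G ⧸ Z}, π g ∈ MulAut.conj h • B.map π ↔
      ∃ h₀ : G, π h₀ = h ∧ h₀⁻¹ * g * h₀ ∈ B := by
    intro g h
    obtain ⟨h₀, rfl⟩ := QuotientGroup.mk'_surjective Z h
    rw [Subgroup.mem_pointwise_smul_iff_inv_smul_mem, ← map_inv, MulAut.smul_def, MulAut.conj_apply]
    constructor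
    · rintro ⟨b, hb, hbg⟩
      refine ⟨h₀, rfl, ?_⟩
      have e : π b = π (h₀⁻¹ * g * h₀) := by
        rw [hbg]; simp only [map_mul, map_inv]; rw [inv_inv]
      have h1 : b⁻¹ * (h₀⁻¹ * g * h₀) ∈ Z := QuotientGroup.eq.mp e
      have := B.mul_mem hb (hZB h1)
      rwa [mul_inv_cancel_left] at this
    · rintro ⟨h₁, hh, hb⟩
      refine ⟨_, hb, ?_⟩
      rw [map_mul, map_mul, map_inv, inv_inv]
      have hh' : π h₁ = π h₀ := hh
      rw [hh']
  have hidxB : (B.map π).index = m := by
    rw [index_map_eq _ (QuotientGroup.mk'_surjective Z) (by rw [QuotientGroup.ker_mk']; exact hZB)]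
    exact hy
  have hnB : Z.relIndex B = n := hT.relIndex_center_cent hy (mul_comm n m)
    (lt_trans zero_lt_one hT.m_one_lt)
  have hF : Cfsg.IsFrobeniusComplement (B.map π) := by
    refine ⟨fun hbot => ?_, fun htop => ?_, fun h hh => eq_bot_iff.mpr ?_⟩
    · rw [Subgroup.map_eq_bot_iff, QuotientGroup.ker_mk'] at hbot
      have := relIndex_eq_one.mpr hbot
      have := hT.one_lt
      omega
    · rw [htop, index_top] at hidxB
      have := hT.m_one_lt
      omega
    · obtain ⟨h₀, rfl⟩ := QuotientGroup.mk'_surjective Z h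
      rintro t ⟨⟨b, hb, rfl⟩, htc⟩
      obtain ⟨h₁, hh1, hb'⟩ := hmem.mp htc
      rw [mem_bot]
      by_contra hne
      have hbc : b ∉ Z := fun h => hne ((QuotientGroup.eq_one_iff b).mpr h)
      have hh1B : h₁ ∈ B := by
        have hc : h₁⁻¹ * b * h₁ ∉ Z := fun h => hbc (by
          have := (inferInstance : Z.Normal).conj_mem _ h h₁
          simpa [mul_assoc] using this)
        have : h₁ * (h₁⁻¹ * b * h₁) * h₁⁻¹ ∈ B := by
          simpa [mul_assoc] using hb
        exact hT.mem_of_conj_mem hy hb' hc this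
      exact hh (hh1 ▸ mem_map_of_mem _ hh1B)
  obtain ⟨K, hKset, hKn, hKc⟩ := Cfsg.Lib.Frobenius.exists_kernel hF
  have hKidx : K.index = n := by
    rw [hKc.symm.index_eq_card.symm.symm]
    have h1 : Nat.card (B.map π) * Nat.card Z = Nat.card B := by
      have h0 := (π.comp B.subtype).ker.card_mul_index
      rw [index_ker, MonoidHom.range_comp, range_subtype, ← MonoidHom.comap_ker, hπ,
        QuotientGroup.ker_mk'] at h0
      rw [← h0, mul_comm]
      congr 1
      exact (Nat.card_congr (subgroupOfEquivOfLe hZB).toEquiv).symm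
    have h2 := (Z.subgroupOf B).card_mul_index
    rw [Nat.card_congr (subgroupOfEquivOfLe hZB).toEquiv, ← relIndex, hnB, ← h1,
      mul_comm (Nat.card (B.map π))] at h2
    exact (Nat.eq_of_mul_eq_mul_left Nat.card_pos h2).symm
  have hAK : A = K.comap π := by
    have hidx : (K.comap π).index = n :=
      (index_comap_of_surjective _ (QuotientGroup.mk'_surjective Z)).trans hKidx
    have hle : A ≤ K.comap π := by
      intro a ha
      show π a ∈ (K : Set (G ⧸ Z))
      rw [hKset]
      by_cases haZ : a ∈ Z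
      · exact Or.inl ((QuotientGroup.eq_one_iff a).mpr haZ)
      · refine Or.inr fun h hc => ?_
        obtain ⟨h₀, -, hb⟩ := hmem.mp hc
        exact haZ (hT.cent_inter_conj hx hy ha hb)
    refine eq_of_le_of_card_ge hle (le_of_eq ?_)
    have h1 := A.card_mul_index
    rw [← (K.comap π).card_mul_index, hidx, show A.index = n from hx] at h1
    exact (Nat.eq_of_mul_eq_mul_right (lt_trans zero_lt_one hT.one_lt) h1).symm
  have hAcomm : ∀ a ∈ A, ∀ c ∈ A, Commute a c := by
    intro a ha c hc
    by_cases haZ : a ∈ Z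
    · exact (Subgroup.mem_center_iff.mp haZ c).symm
    have hCle : centralizer ({a} : Set G) ≤ A := by
      intro d hd
      by_contra hdA
      have hdK : π d ∉ (K : Set (G ⧸ Z)) := fun h => hdA (hAK ▸ h)
      rw [hKset] at hdK
      simp only [Cfsg.frobeniusKernel, Set.mem_ofPred_eq, not_or, not_forall, not_not] at hdK
      obtain ⟨hd1, h, hdh⟩ := hdK
      obtain ⟨h₀, -, hb⟩ := hmem.mp hdh
      have hbc : h₀⁻¹ * d * h₀ ∉ Z := fun h => hd1 ((QuotientGroup.eq_one_iff d).mpr (by
        have := (inferInstance : Z.Normal).conj_mem _ h h₀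
        simpa [mul_assoc] using this))
      have haB : h₀⁻¹ * a * h₀ ∈ B := by
        rw [hB, ← hT.cent_eq hy hb hbc]
        refine mem_cent.mpr ?_
        have := ((mem_cent.mp hd).symm).map (MulAut.conj h₀⁻¹).toMonoidHom
        simpa [MulAut.conj_apply] using this
      exact haZ (hT.cent_inter_conj hx hy ha haB)
    have hdvd : n ∣ cs a := hx ▸ index_dvd_of_le hCle
    have hne : cs a ≠ m := fun h => by
      rw [h] at hdvd
      have := Nat.eq_one_of_dvd_coprimes hT.cop hdvd dvd_rfl
      have := hT.one_lt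
      omega
    have hle : cs a ≤ n := hT.le' _ (lt_of_le_of_ne (hT.le _) hne)
    have heq : centralizer ({a} : Set G) = A := by
      refine eq_of_le_of_card_ge hCle ?_
      refine Nat.le_of_mul_le_mul_right (c := A.index) ?_ (Nat.pos_of_ne_zero index_ne_zero_of_finite)
      rw [A.card_mul_index, ← (centralizer ({a} : Set G)).card_mul_index]
      exact Nat.mul_le_mul_left _ (hle.trans_eq (show A.index = n from hx).symm)
    rw [← heq] at hc
    exact (mem_cent.mp hc).symm
  refine ⟨⟨⟨fun a c => Subtype.ext (hAcomm a a.2 c c.2).eq⟩⟩,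
    ⟨⟨fun a c => Subtype.ext (hT.cent_comm hy a a.2 c c.2).eq⟩⟩, hF, ?_⟩
  rw [← hKset, hAK, map_comap_eq_self_of_surjective (QuotientGroup.mk'_surjective Z)]

end Cfsg.Lib.ClassSize.Top
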