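import Mathlib
import Cfsg.Agent.ClassSize.Basic
import Cfsg.Agent.SolvStruct.Basics
import Cfsg.Agent.SolvStruct.ItoClasses

/-!
# The prime graph of the class sizes of `p`-singular elements
-/

set_option autoImplicit false
set_option linter.unusedSectionVars false
set_option linter.style.haveILetI false

namespace Cfsg.Lib.ClassSize.Singular

open Subgroup
open scoped Pointwise commutatorElement

universe u

variable {G : Type u} [Group G] [Finite G] {p : ℕ} [hp : Fact p.Prime]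

/-- A class size of a `p`-singular element divisible by both `a` and `b`. -/
def Edge (p : ℕ) (G : Type u) [Group G] (a b : ℕ) : Prop :=
  ∃ x : G, p ∣ orderOf x ∧ a * b ∣ cs x

theorem sylow_conj_in (H : Subgroup G) {P Q : Sylow p G} (hP : (P : Subgroup G) ≤ H)
    (hQ : (Q : Subgroup G) ≤ H) :
    ∃ k ∈ H, ∀ z ∈ (Q : Subgroup G), k * z * k⁻¹ ∈ (P : Subgroup G) := by
  obtain ⟨k, hk⟩ := MulAction.exists_smul_eq H (Q.subtype hQ) (P.subtype hP)
  refine ⟨k, k.2, fun z hz => ?_⟩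
  have h1 : MulAut.conj k ⟨z, hQ hz⟩ ∈ ((P.subtype hP : Sylow p H) : Subgroup H) := by
    rw [← hk, Sylow.coe_subgroup_smul]
    exact Subgroup.smul_mem_pointwise_smul _ (MulAut.conj k) _ (mem_subgroupOf.mpr hz)
  exact h1

theorem elt_conj_in (H : Subgroup G) {Q : Sylow p G} (hQ : (Q : Subgroup G) ≤ H) {y : G}
    (hy : y ∈ H) (hyo : ∃ k, orderOf y = p ^ k) :
    ∃ k ∈ H, k * y * k⁻¹ ∈ (Q : Subgroup G) := by
  have hnd : ¬ p ∣ ((Q : Subgroup G).subgroupOf H).index := fun h =>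
    Q.not_dvd_index (h.trans (relIndex_dvd_index_of_le hQ))
  obtain ⟨c, hc⟩ := exists_conj_mem hp.out hnd (g := (⟨y, hy⟩ : H))
    (by simpa [Subgroup.orderOf_mk] using hyo)
  exact ⟨c, c.2, hc⟩

theorem not_central (hZ : ¬ p ∣ Nat.card (center G)) {x : G} (hx : ∃ k, orderOf x = p ^ k)
    (hx1 : x ≠ 1) : cs x ≠ 1 := by
  intro h
  obtain ⟨k, hk⟩ := hx
  rcases k with _ | k
  · rw [pow_zero, orderOf_eq_one_iff] at hk; exact hx1 hk
  · exact hZ ((dvd_pow_self p k.succ_ne_zero).trans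
      (hk ▸ Subgroup.orderOf_dvd_natCard _ (cs_eq_one_iff.mp h)))

/-- If some non-identity `p`-element has class size prime to `p` and another has class size
divisible by `p`, then `p` is adjacent to a prime dividing the first class size. -/
theorem exists_edge_p (hZ : ¬ p ∣ Nat.card (center G)) {x x' : G}
    (hxo : ∃ k, orderOf x = p ^ k) (hx1 : x ≠ 1) (ha : ¬ p ∣ cs x)
    (hxo' : ∃ k, orderOf x' = p ^ k) (hb : p ∣ cs x') :
    ∃ t : ℕ, t.Prime ∧ t ∣ cs x ∧ Edge p G p t := by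
  classical
  by_contra hcon
  push Not at hcon
  have hassume : ∀ g : G, p ∣ orderOf g → p ∣ cs g → (cs g).Coprime (cs x) := by
    intro g hg hpg
    refine Nat.coprime_iff_gcd_eq_one.mpr ?_
    by_contra hne
    obtain ⟨t, ht, htd⟩ := Nat.exists_prime_and_dvd hne
    have htx := htd.trans (Nat.gcd_dvd_right _ _)
    have hne' : p ≠ t := fun e => ha (e ▸ htx)
    exact hcon t ht htx ⟨g, hg, Nat.Coprime.mul_dvd_of_dvd_of_dvd
      ((Nat.coprime_primes hp.out ht).mpr hne') hpg (htd.trans (Nat.gcd_dvd_left _ _))⟩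
  have hpd : ∀ {g : G}, (∃ k, orderOf g = p ^ k) → g ≠ 1 → p ∣ orderOf g := by
    rintro g ⟨k, hk⟩ hg
    rcases k with _ | k
    · rw [pow_zero, orderOf_eq_one_iff] at hk; exact absurd hk hg
    · exact hk ▸ dvd_pow_self p k.succ_ne_zero
  obtain ⟨P, hxP⟩ := Cfsg.Lib.SolvStruct.ItoClasses.exists_sylow_centralizing (p := p) x ha
  set H := centralizer ({x} : Set G) with hH
  have hPH : (P : Subgroup G) ≤ H := fun z hz =>
    mem_cent.mpr (mem_centralizer_iff.mp hxP z hz)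
  have hxmem : x ∈ (P : Subgroup G) := by
    obtain ⟨k, hk, hkx⟩ := elt_conj_in H hPH (mem_cent.mpr (Commute.refl x)) hxo
    rwa [(mem_cent.mp hk).eq, mul_inv_cancel_right] at hkx
  set CP := centralizer ((P : Subgroup G) : Set G) with hCP
  have hCPH : CP ≤ H := fun z hz => mem_cent.mpr (mem_centralizer_iff.mp hz x hxmem).symm
  set M := (P : Subgroup G) ⊔ CP with hM
  -- `C(x) = P C(P)`
  have hHM : H ≤ M := by
    by_contra hne
    have hne' : M.subgroupOf H ≠ ⊤ := fun h => hne (subgroupOf_eq_top.mp h)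
    obtain ⟨c, hc⟩ := Cfsg.Lib.SolvStruct.exists_not_mem_conj (M.subgroupOf H) hne'
    obtain ⟨c, hcH⟩ := c
    set N₁ := orderOf c / p ^ (orderOf c).factorization p with hN₁
    have hprod : p ^ (orderOf c).factorization p * N₁ = orderOf c := Nat.ordProj_mul_ordCompl_eq_self _ _
    have hcop : (p ^ (orderOf c).factorization p).Coprime N₁ :=
      Nat.Coprime.pow_left _ (Nat.coprime_ordCompl hp.out (orderOf_pos c).ne')
    obtain ⟨e, he1, he2⟩ := Nat.chineseRemainder hcop 1 0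
    obtain ⟨d, hd1, hd2⟩ := Nat.chineseRemainder hcop 0 1
    set y := c ^ e with hy
    set w := c ^ d with hw
    have hyw : y * w = c := by
      rw [hy, hw, ← pow_add]
      conv_rhs => rw [← pow_one c]
      refine pow_eq_pow_iff_modEq.mpr ?_
      rw [← hprod]
      exact (Nat.modEq_and_modEq_iff_modEq_mul hcop).mp ⟨by simpa using he1.add hd1, by simpa using he2.add hd2⟩
    have hyo : ∃ k, orderOf y = p ^ k := by
      have : orderOf y ∣ p ^ (orderOf c).factorization p := by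
        refine orderOf_dvd_of_pow_eq_one ?_
        rw [hy, ← pow_mul, ← orderOf_dvd_iff_pow_eq_one]
        conv_lhs => rw [← hprod, mul_comm]
        exact Nat.mul_dvd_mul (Nat.modEq_zero_iff_dvd.mp he2) dvd_rfl
      obtain ⟨j, -, hj⟩ := (Nat.dvd_prime_pow hp.out).mp this
      exact ⟨j, hj⟩
    have hwo : ¬ p ∣ orderOf w := by
      have : orderOf w ∣ N₁ := by
        refine orderOf_dvd_of_pow_eq_one ?_
        rw [hw, ← pow_mul, ← orderOf_dvd_iff_pow_eq_one]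
        conv_lhs => rw [← hprod]
        exact Nat.mul_dvd_mul (Nat.modEq_zero_iff_dvd.mp hd1) dvd_rfl
      exact fun h => Nat.not_dvd_ordCompl hp.out (orderOf_pos c).ne' (h.trans this)
    have hxw : Commute x w := ((mem_cent.mp hcH).symm).pow_right d
    have hoc : (orderOf x).Coprime (orderOf w) := by
      obtain ⟨k, hk⟩ := hxo
      rw [hk]
      exact Nat.Coprime.pow_left k (hp.out.coprime_iff_not_dvd.mpr hwo)
    have hg : p ∣ orderOf (x * w) := by
      rw [hxw.orderOf_mul_eq_mul_orderOf_of_coprime hoc]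
      exact Dvd.dvd.mul_right (hpd hxo hx1) _
    have hC := cent_mul_of_coprime hxw hoc
    have hnd : ¬ p ∣ cs (x * w) := by
      intro h
      have h1 : cs x ∣ cs (x * w) := index_dvd_of_le (hC ▸ inf_le_left)
      have h2 := hassume _ hg h
      exact not_central hZ hxo hx1 (Nat.eq_one_of_dvd_coprimes h2 h1 dvd_rfl)
    obtain ⟨Q, hQ⟩ := Cfsg.Lib.SolvStruct.ItoClasses.exists_sylow_centralizing (p := p) (x * w) hnd
    have hQC : (Q : Subgroup G) ≤ centralizer ({x * w} : Set G) := fun z hz =>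
      mem_cent.mpr (mem_centralizer_iff.mp hQ z hz)
    have hyC : y ∈ centralizer ({x * w} : Set G) :=
      mem_cent.mpr (((mem_cent.mp hcH).pow_left e).mul_right (Commute.pow_pow_self c e d))
    obtain ⟨k₁, hk₁, hy₁⟩ := elt_conj_in _ hQC hyC hyo
    rw [hC] at hk₁ hQC
    obtain ⟨k₂, hk₂, hPQ⟩ := sylow_conj_in H hPH (hQC.trans inf_le_left)
    have hwP : k₂ * w * k₂⁻¹ ∈ CP := by
      refine mem_centralizer_iff.mpr fun z hz => ?_
      obtain ⟨k₃, hk₃⟩ : ∃ z' ∈ (Q : Subgroup G), z = k₂ * z' * k₂⁻¹ := by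
        have hcard : ((Q : Subgroup G).map (MulAut.conj k₂).toMonoidHom) = (P : Subgroup G) := by
          refine eq_of_le_of_card_ge ?_ ?_
          · rintro _ ⟨z', hz', rfl⟩
            exact hPQ z' hz'
          · rw [card_map_of_injective (MulAut.conj k₂).injective, P.card_eq_multiplicity,
              Q.card_eq_multiplicity]
        rw [← hcard] at hz
        obtain ⟨z', hz', rfl⟩ := mem_map.mp hz
        exact ⟨z', hz', rfl⟩
      rw [hk₃.2]
      have := (mem_cent.mp (hQC hk₃.1).2).map (MulAut.conj k₂).toMonoidHom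
      simpa [MulAut.conj_apply] using this.eq
    refine hc ⟨(k₂ * k₁)⁻¹, inv_mem (H.mul_mem hk₂ hk₁.1)⟩ ?_
    rw [mem_subgroupOf]
    show (k₂ * k₁)⁻¹⁻¹ * c * (k₂ * k₁)⁻¹ ∈ M
    have e1 : (k₂ * k₁)⁻¹⁻¹ * c * (k₂ * k₁)⁻¹ =
        k₂ * (k₁ * y * k₁⁻¹) * k₂⁻¹ * (k₂ * (k₁ * w * k₁⁻¹) * k₂⁻¹) := by
      rw [← hyw]; group
    have e2 : k₁ * w * k₁⁻¹ = w := by
      rw [(mem_cent.mp hk₁.2).eq, mul_inv_cancel_right]
    rw [e1, e2]
    exact M.mul_mem (mem_sup_left (hPQ _ hy₁)) (mem_sup_right hwP)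
  have hHN : ∀ c ∈ H, ∀ y ∈ (P : Subgroup G), c * y * c⁻¹ ∈ (P : Subgroup G) ∧
      ∃ π ∈ (P : Subgroup G), c * y * c⁻¹ = π * y * π⁻¹ := by
    have hle : CP ≤ normalizer ((P : Subgroup G) : Set G) := centralizer_le_normalizer _
    intro c hc y hy
    have hc' : c ∈ (P : Subgroup G) ⊔ CP := hHM hc
    rw [sup_comm] at hc'
    rw [← SetLike.mem_coe, coe_mul_of_left_le_normalizer_right _ _ hle] at hc'
    obtain ⟨z, hz, π, hπ, rfl⟩ := hc'
    replace hz : z ∈ CP := hz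
    replace hπ : π ∈ (P : Subgroup G) := hπ
    dsimp only
    have h1 : π * y * π⁻¹ ∈ (P : Subgroup G) :=
      (P : Subgroup G).mul_mem ((P : Subgroup G).mul_mem hπ hy) ((P : Subgroup G).inv_mem hπ)
    have e : z * π * y * (z * π)⁻¹ = π * y * π⁻¹ := by
      calc z * π * y * (z * π)⁻¹ = z * (π * y * π⁻¹) * z⁻¹ := by group
        _ = π * y * π⁻¹ := by rw [← mem_centralizer_iff.mp hz _ h1, mul_inv_cancel_right]
    exact ⟨e ▸ h1, π, hπ, e⟩
  -- elements whose class size is coprime to that of `x`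
  have htrans : ∀ y ∈ (P : Subgroup G), (cs y).Coprime (cs x) → ∀ g : G,
      g * y * g⁻¹ ∈ (P : Subgroup G) ∧ ∃ π ∈ (P : Subgroup G), g * y * g⁻¹ = π * y * π⁻¹ := by
    intro y hy hcop g
    obtain ⟨c, hc, d, hd, hcd⟩ := exists_mul_of_coprime (A := centralizer ({x} : Set G))
      (B := centralizer ({y} : Set G)) hcop.symm g
    have e : g * y * g⁻¹ = c * y * c⁻¹ := by
      rw [hcd]
      calc c * d * y * (c * d)⁻¹ = c * (d * y * d⁻¹) * c⁻¹ := by group
        _ = c * y * c⁻¹ := by rw [(mem_cent.mp hd).eq, mul_inv_cancel_right]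
    rw [e]
    exact hHN c hc y hy
  have hporder : ∀ y ∈ (P : Subgroup G), ∃ k, orderOf y = p ^ k := fun y hy => by
    obtain ⟨k, hk⟩ := IsPGroup.iff_orderOf.mp P.2 ⟨y, hy⟩
    exact ⟨k, by rwa [Subgroup.orderOf_mk] at hk⟩
  have hmixed : ∀ y ∈ (P : Subgroup G), p ∣ cs y → (cs y).Coprime (cs x) := fun y hy hpy =>
    hassume y (hpd (hporder y hy) fun h => by
      rw [h, cs_eq_one_iff.mpr (one_mem _)] at hpy
      exact hp.out.one_lt.ne' (Nat.dvd_one.mp hpy)) hpy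
  -- replace `x'` by a conjugate inside `P`
  obtain ⟨c₀, hc₀⟩ := exists_conj_mem hp.out P.not_dvd_index hxo'
  set v := c₀ * x' * c₀⁻¹ with hv
  have hvb : p ∣ cs v := by rwa [hv, cs_conj]
  have hvall : ∀ g : G, g * v * g⁻¹ ∈ (P : Subgroup G) := fun g =>
    (htrans v hc₀ (hmixed v hc₀ hvb) g).1
  have hPv : ¬ (P : Subgroup G) ≤ centralizer ({v} : Set G) := fun h =>
    P.not_dvd_index (hvb.trans (index_dvd_of_le h))
  have hncomm : ∀ y ∈ (P : Subgroup G), y ∉ centralizer ({v} : Set G) →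
      y ∈ (P : Subgroup G).normalCore := by
    intro y hy hyv g
    refine (htrans y hy (hmixed y hy ?_) g).1
    by_contra hnd
    obtain ⟨Q, hQ⟩ := Cfsg.Lib.SolvStruct.ItoClasses.exists_sylow_centralizing (p := p) y hnd
    obtain ⟨h, hh⟩ := MulAction.exists_smul_eq G P Q
    refine hyv (mem_cent.mpr ?_)
    have hvQ : v ∈ (Q : Subgroup G) := by
      rw [← hh, Sylow.coe_subgroup_smul, Subgroup.mem_pointwise_smul_iff_inv_smul_mem, ← map_inv,
        MulAut.smul_def, MulAut.conj_apply]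
      exact hvall h⁻¹
    exact (mem_centralizer_iff.mp hQ v hvQ).symm
  have hnormal : (P : Subgroup G).Normal := by
    have hle : (P : Subgroup G) ≤ (P : Subgroup G).normalCore := by
      intro z hz
      by_contra hzc
      obtain ⟨y, hy, hyv⟩ := SetLike.not_le_iff_exists.mp hPv
      have hzv : z ∈ centralizer ({v} : Set G) := by
        by_contra h
        exact hzc (hncomm z hz h)
      have hyc := hncomm y hy hyv
      have h1 := hncomm (z * y) ((P : Subgroup G).mul_mem hz hy)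
        (fun h => hyv ((Subgroup.mul_mem_cancel_left _ hzv).mp h))
      exact hzc ((Subgroup.mul_mem_cancel_right _ hyc).mp h1)
    rw [le_antisymm hle (normalCore_le _)]
    infer_instance
  have hnotZ : ∀ y ∈ (P : Subgroup G), y ∉ CP → p ∣ cs y := by
    intro y hy hyn
    by_contra hnd
    obtain ⟨Q, hQ⟩ := Cfsg.Lib.SolvStruct.ItoClasses.exists_sylow_centralizing (p := p) y hnd
    haveI := Sylow.unique_of_normal P hnormal
    rw [Subsingleton.elim Q P] at hQ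
    exact hyn hQ
  -- an element of the second centre
  set Zc := center (P : Subgroup G) with hZc
  haveI : Nontrivial ((P : Subgroup G) ⧸ Zc) := by
    rw [QuotientGroup.nontrivial_iff]
    intro h
    refine hPv fun z hz => mem_cent.mpr ?_
    have hc : (⟨z, hz⟩ : (P : Subgroup G)) ∈ Zc := h ▸ mem_top _
    exact congrArg Subtype.val (Subgroup.mem_center_iff.mp hc ⟨v, hc₀⟩).symm
  haveI := (P.2.to_quotient Zc).center_nontrivial
  obtain ⟨⟨q, hq⟩, hq1⟩ := exists_ne (1 : center ((P : Subgroup G) ⧸ Zc))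
  obtain ⟨⟨y, hy⟩, rfl⟩ := QuotientGroup.mk'_surjective Zc q
  have hy2 : ∀ d : (P : Subgroup G), ⁅(⟨y, hy⟩ : (P : Subgroup G)), d⁆ ∈ Zc := fun d => by
    refine (QuotientGroup.eq_one_iff _).mp ?_
    change QuotientGroup.mk' Zc _ = 1
    rw [map_commutatorElement, commutatorElement_eq_one_iff_mul_comm]
    exact (Subgroup.mem_center_iff.mp hq _).symm
  have hyZ : (⟨y, hy⟩ : (P : Subgroup G)) ∉ Zc := fun h =>
    hq1 (Subtype.ext ((QuotientGroup.eq_one_iff _).mpr h))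
  have hcentralP : ∀ a ∈ (P : Subgroup G), a ∈ CP → ∀ ha : a ∈ (P : Subgroup G),
      (⟨a, ha⟩ : (P : Subgroup G)) ∈ Zc := fun a _ ha ha' =>
    Subgroup.mem_center_iff.mpr fun b => Subtype.ext (mem_centralizer_iff.mp ha b b.2)
  obtain ⟨⟨d, hd⟩, hyd⟩ : ∃ d : (P : Subgroup G), ¬ Commute (⟨y, hy⟩ : (P : Subgroup G)) d := by
    by_contra h
    push Not at h
    exact hyZ (Subgroup.mem_center_iff.mpr fun b => ((h b).eq).symm)
  have hyCP : y ∉ CP := fun h => hyZ (hcentralP y hy h hy)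
  have hdCP : d ∉ CP := fun h => hyd (Subtype.ext (mem_centralizer_iff.mp h y hy))
  -- `[y, d]` is central in `G`
  set Y : (P : Subgroup G) := ⟨y, hy⟩ with hY
  set D : (P : Subgroup G) := ⟨d, hd⟩ with hD
  let ψ : (P : Subgroup G) →* Zc :=
    { toFun := fun a => ⟨⁅Y, a⁆, hy2 a⟩
      map_one' := Subtype.ext (by simp)
      map_mul' := fun a b => Subtype.ext (by
        show ⁅Y, a * b⁆ = ⁅Y, a⁆ * ⁅Y, b⁆
        have h1 : a * ⁅Y, b⁆ = ⁅Y, b⁆ * a := Subgroup.mem_center_iff.mp (hy2 b) a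
        calc ⁅Y, a * b⁆ = ⁅Y, a⁆ * (a * ⁅Y, b⁆ * a⁻¹) := by
              simp only [commutatorElement_def]; group
          _ = ⁅Y, a⁆ * ⁅Y, b⁆ := by rw [h1, mul_inv_cancel_right]) }
  have hconjY : ∀ a b : (P : Subgroup G), ψ (a * b * a⁻¹) = ψ b := fun a b => by
    rw [map_mul, map_mul, map_inv, show ψ a * ψ b = ψ b * ψ a from
      Subtype.ext (Subgroup.mem_center_iff.mp (ψ b).2 (ψ a : (P : Subgroup G))), mul_inv_cancel_right]
  have hcentral : ⁅y, d⁆ ∈ center G := by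
    refine Subgroup.mem_center_iff.mpr fun g => ?_
    obtain ⟨-, π, hπ, he⟩ := htrans y hy (hmixed y hy (hnotZ y hy hyCP)) g
    obtain ⟨-, π', hπ', he'⟩ := htrans d hd (hmixed d hd (hnotZ d hd hdCP)) g
    have h1 : g * ⁅y, d⁆ * g⁻¹ = ⁅y, d⁆ := by
      have e1 : g * ⁅y, d⁆ * g⁻¹ = ⁅g * y * g⁻¹, g * d * g⁻¹⁆ := by
        simp only [commutatorElement_def]; group
      rw [e1, he, he']
      have h2 : (⟨π, hπ⟩ : (P : Subgroup G)) * Y * (⟨π, hπ⟩ : (P : Subgroup G))⁻¹ =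
          (ψ ⟨π, hπ⟩ : (P : Subgroup G))⁻¹ * Y := by
        show _ = ⁅Y, (⟨π, hπ⟩ : (P : Subgroup G))⁆⁻¹ * Y
        rw [commutatorElement_def]; group
      have h3 : ⁅(⟨π, hπ⟩ : (P : Subgroup G)) * Y * (⟨π, hπ⟩ : (P : Subgroup G))⁻¹,
          (⟨π', hπ'⟩ : (P : Subgroup G)) * D * (⟨π', hπ'⟩ : (P : Subgroup G))⁻¹⁆ = ⁅Y, D⁆ := by
        rw [h2]
        have hz : (ψ ⟨π, hπ⟩ : (P : Subgroup G))⁻¹ ∈ Zc := inv_mem (ψ ⟨π, hπ⟩).2
        have h4 : ∀ (ζ : (P : Subgroup G)) (b : (P : Subgroup G)), ζ ∈ Zc → ⁅ζ * Y, b⁆ = ⁅Y, b⁆ := by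
          intro ζ b hζ
          calc ⁅ζ * Y, b⁆ = ζ * (Y * b * Y⁻¹) * ζ⁻¹ * b⁻¹ := by
                simp only [commutatorElement_def]; group
            _ = ⁅Y, b⁆ := by
                rw [← Subgroup.mem_center_iff.mp hζ, mul_inv_cancel_right, commutatorElement_def]
        rw [h4 _ _ hz]
        exact congrArg Subtype.val (hconjY ⟨π', hπ'⟩ D)
      simpa [commutatorElement_def, hY, hD] using congrArg Subtype.val h3
    exact mul_inv_eq_iff_eq_mul.mp h1
  have hne : ⁅y, d⁆ ≠ 1 := fun h => hyd (Subtype.ext (commutatorElement_eq_one_iff_mul_comm.mp h))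
  have hmem : ⁅y, d⁆ ∈ (P : Subgroup G) := by
    rw [commutatorElement_def]
    exact (P : Subgroup G).mul_mem ((P : Subgroup G).mul_mem ((P : Subgroup G).mul_mem hy hd)
      ((P : Subgroup G).inv_mem hy)) ((P : Subgroup G).inv_mem hd)
  exact not_central hZ (hporder _ hmem) hne (cs_eq_one_iff.mpr hcentral)

/-- Two non-identity `p`-elements: the class sizes share a prime or have adjacent primes. -/
theorem linked (hZ : ¬ p ∣ Nat.card (center G)) {x x' : G}
    (hxo : ∃ k, orderOf x = p ^ k) (hx1 : x ≠ 1) (hxo' : ∃ k, orderOf x' = p ^ k) (hx1' : x' ≠ 1) :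
    ∃ t u : ℕ, t.Prime ∧ u.Prime ∧ t ∣ cs x ∧ u ∣ cs x' ∧ (t = u ∨ Edge p G t u) := by
  by_cases hcop : (cs x).Coprime (cs x')
  swap
  · obtain ⟨t, ht, htd⟩ := Nat.exists_prime_and_dvd (fun h => hcop (Nat.coprime_iff_gcd_eq_one.mpr h))
    exact ⟨t, t, ht, ht, htd.trans (Nat.gcd_dvd_left _ _), htd.trans (Nat.gcd_dvd_right _ _),
      Or.inl rfl⟩
  by_cases ha : p ∣ cs x
  · have hb : ¬ p ∣ cs x' := fun h => hp.out.ne_one (Nat.eq_one_of_dvd_coprimes hcop ha h)
    obtain ⟨u, hu, hud, he⟩ := exists_edge_p hZ hxo' hx1' hb hxo ha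
    exact ⟨p, u, hp.out, hu, ha, hud, Or.inr he⟩
  by_cases hb : p ∣ cs x'
  · obtain ⟨t, ht, htd, g, hg, hgd⟩ := exists_edge_p hZ hxo hx1 ha hxo' hb
    exact ⟨t, p, ht, hp.out, htd, hb, Or.inr ⟨g, hg, mul_comm t p ▸ hgd⟩⟩
  -- both class sizes prime to `p`: use a product
  obtain ⟨c, hc⟩ := exists_conj_mem hp.out ha hxo'
  set v := c * x' * c⁻¹ with hv
  have hvo : ∃ k, orderOf v = p ^ k := by
    obtain ⟨k, hk⟩ := hxo'
    exact ⟨k, by rw [hv, ← MulAut.conj_apply, MulEquiv.orderOf_eq, hk]⟩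
  have hcomm : Commute x v := (mem_cent.mp hc).symm
  have hcop' : (cs x).Coprime (cs v) := by rwa [hv, cs_conj]
  have hvne : cs v ≠ 1 := by rw [hv, cs_conj]; exact not_central hZ hxo' hx1'
  have hxne : cs x ≠ 1 := not_central hZ hxo hx1
  have hvb : ¬ p ∣ cs v := by rwa [hv, cs_conj]
  have key : ∀ {a b : G}, Commute a b → (∃ k, orderOf a = p ^ k) → cs a ≠ 1 → ¬ p ∣ cs b →
      (cs a).Coprime (cs b) → ¬ (cs (a * b)).Coprime (cs a) := by
    intro a b _ hao hane hpb hab h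
    have h1 : cs (a * b) ∣ cs b := h.dvd_of_dvd_mul_left (cs_mul_dvd hab)
    have h2 : cs (a * b) = cs b := le_antisymm
      (Nat.le_of_dvd (Nat.pos_of_ne_zero index_ne_zero_of_finite) h1) (cs_le_cs_mul hab)
    obtain ⟨M, hMn, hM, hMd⟩ := exists_stabilizer hab h2
    exact hpb ((commute_conj_of_stabilizer hp.out hao hane hMn hM
      (hab.coprime_dvd_right hMd)).1.trans hMd)
  obtain ⟨t, ht, htd⟩ := Nat.exists_prime_and_dvd
    (fun h => key hcomm hxo hxne hvb hcop' (Nat.coprime_iff_gcd_eq_one.mpr h))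
  obtain ⟨u, hu, hud⟩ := Nat.exists_prime_and_dvd
    (fun h => key hcomm.symm hvo hvne ha hcop'.symm (Nat.coprime_iff_gcd_eq_one.mpr h))
  rw [← hcomm.eq] at hud
  have hux : u ∣ cs x' := by
    have h5 := hud.trans (Nat.gcd_dvd_right _ _)
    rwa [hv, cs_conj] at h5
  refine ⟨t, u, ht, hu, htd.trans (Nat.gcd_dvd_right _ _), hux, Or.inr ⟨x * v, ?_, ?_⟩⟩
  · obtain ⟨i, hi⟩ := hxo
    obtain ⟨j, hj⟩ := hvo
    obtain ⟨l, -, hl⟩ := (Nat.dvd_prime_pow hp.out).mp (show orderOf (x * v) ∣ p ^ max i j from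
      hcomm.orderOf_mul_dvd_lcm.trans (Nat.lcm_dvd (hi ▸ pow_dvd_pow p (le_max_left _ _))
        (hj ▸ pow_dvd_pow p (le_max_right _ _))))
    rcases l with _ | l
    · rw [pow_zero, orderOf_eq_one_iff] at hl
      have h6 := cs_le_cs_mul hcop'
      rw [hl, cs_eq_one_iff.mpr (one_mem _)] at h6
      have := Nat.pos_of_ne_zero (index_ne_zero_of_finite (H := centralizer ({v} : Set G)))
      exact absurd (le_antisymm h6 this) hvne
    · exact hl ▸ dvd_pow_self p l.succ_ne_zero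
  · refine Nat.Coprime.mul_dvd_of_dvd_of_dvd ((Nat.coprime_primes ht hu).mpr fun e => ?_)
      (htd.trans (Nat.gcd_dvd_left _ _)) (hud.trans (Nat.gcd_dvd_left _ _))
    exact ht.ne_one (Nat.eq_one_of_dvd_coprimes hcop (htd.trans (Nat.gcd_dvd_right _ _)) (e ▸ hux))

/-- The diameter bound. -/
theorem diameter (hZ : ¬ p ∣ Nat.card (center G)) {r s : ℕ}
    (hr : r.Prime ∧ ∃ x : G, p ∣ orderOf x ∧ r ∣ cs x)
    (hs : s.Prime ∧ ∃ x : G, p ∣ orderOf x ∧ s ∣ cs x) (hrs : r ≠ s) :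
    Edge p G r s ∨
      (∃ t : ℕ, (t.Prime ∧ ∃ x : G, p ∣ orderOf x ∧ t ∣ cs x) ∧ t ≠ r ∧ t ≠ s ∧
        Edge p G r t ∧ Edge p G t s) ∨
      ∃ t u : ℕ, (t.Prime ∧ ∃ x : G, p ∣ orderOf x ∧ t ∣ cs x) ∧
        (u.Prime ∧ ∃ x : G, p ∣ orderOf x ∧ u ∣ cs x) ∧ t ≠ r ∧ u ≠ s ∧ t ≠ u ∧
        Edge p G r t ∧ Edge p G t u ∧ Edge p G u s := by
  obtain ⟨hrp, g, hg, hrg⟩ := hr
  obtain ⟨hsp, g', hg', hsg⟩ := hs
  have hpow : ∀ h : G, p ∣ orderOf h → orderOf (h ^ (orderOf h / p)) = p := fun h hh =>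
    orderOf_pow_orderOf_div (orderOf_pos h).ne' hh
  have hne1 : ∀ h : G, p ∣ orderOf h → h ^ (orderOf h / p) ≠ 1 := fun h hh e => by
    have := hpow h hh
    rw [e, orderOf_one] at this
    exact hp.out.one_lt.ne this
  obtain ⟨t, u, ht, hu, htx, hux, hlink⟩ := linked hZ
    (x := g ^ (orderOf g / p)) (x' := g' ^ (orderOf g' / p))
    ⟨1, by rw [hpow g hg, pow_one]⟩ (hne1 g hg) ⟨1, by rw [hpow g' hg', pow_one]⟩ (hne1 g' hg')
  have htg : t ∣ cs g := htx.trans (cs_dvd_of_mem_zpowers (pow_mem (mem_zpowers g) _))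
  have hug : u ∣ cs g' := hux.trans (cs_dvd_of_mem_zpowers (pow_mem (mem_zpowers g') _))
  have edge_of : ∀ {h : G} {a b : ℕ}, p ∣ orderOf h → a.Prime → b.Prime → a ≠ b → a ∣ cs h →
      b ∣ cs h → Edge p G a b := fun hh ha hb hab h1 h2 =>
    ⟨_, hh, ((Nat.coprime_primes ha hb).mpr hab).mul_dvd_of_dvd_of_dvd h1 h2⟩
  have Vt : t.Prime ∧ ∃ x : G, p ∣ orderOf x ∧ t ∣ cs x := ⟨ht, g, hg, htg⟩
  have Vu : u.Prime ∧ ∃ x : G, p ∣ orderOf x ∧ u ∣ cs x := ⟨hu, g', hg', hug⟩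
  by_cases hts : t = s
  · subst hts; exact Or.inl (edge_of hg hrp hsp hrs hrg htg)
  by_cases hur : u = r
  · subst hur; exact Or.inl (edge_of hg' hrp hsp hrs hug hsg)
  by_cases htu : t = u
  · subst htu
    exact Or.inr (Or.inl ⟨t, Vt, hur, hts, edge_of hg hrp ht (Ne.symm hur) hrg htg,
      edge_of hg' ht hsp hts hug hsg⟩)
  have hE : Edge p G t u := hlink.resolve_left htu
  by_cases htr : t = r
  · subst htr
    by_cases hus : u = s
    · subst hus; exact Or.inl hE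
    exact Or.inr (Or.inl ⟨u, Vu, hur, hus, hE, edge_of hg' hu hsp hus hug hsg⟩)
  by_cases hus : u = s
  · subst hus
    exact Or.inr (Or.inl ⟨t, Vt, htr, hts, edge_of hg hrp ht (Ne.symm htr) hrg htg, hE⟩)
  exact Or.inr (Or.inr ⟨t, u, Vt, Vu, htr, hus, htu, edge_of hg hrp ht (Ne.symm htr) hrg htg, hE,
    edge_of hg' hu hsp hus hug hsg⟩)

end Cfsg.Lib.ClassSize.Singular
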